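import Cfsg.Agent.H155.TI.Defs

/-!
# The row `PSL₃(4)`: group theory of the frame (helper155)
-/

set_option autoImplicit false
set_option linter.unusedSectionVars false

namespace Cfsg.Agent.H155.TI

open Cfsg
open scoped Pointwise

universe u

variable {Γ : Type u} [Group Γ] {Z L P H : Subgroup Γ} {x d a b : Γ}

/-- `L⟨e⟩` -/
abbrev Le (L : Subgroup Γ) (e : Γ) : Subgroup Γ := L ⊔ Subgroup.zpowers e

theorem mem_Le (hL : L.Normal) {e : Γ} (hee : e * e ∈ L) {g : Γ} :
    g ∈ Le L e ↔ g ∈ L ∨ ∃ l ∈ L, g = l * e := by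
  constructor
  · intro hg
    rw [Le, Subgroup.sup_eq_closure] at hg
    have h1 : ∀ g, g ∈ Subgroup.closure ((L : Set Γ) ∪ (Subgroup.zpowers e : Set Γ)) →
        (g ∈ L ∨ ∃ l ∈ L, g = l * e) := by
      intro g hg
      induction hg using Subgroup.closure_induction with
      | mem x hx =>
        rcases hx with hx | ⟨k, rfl⟩
        · exact Or.inl hx
        · have h2 : ∀ k : ℕ, (e ^ k ∈ L ∨ ∃ l ∈ L, e ^ k = l * e) := by
            intro k
            induction k with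
            | zero => left; rw [pow_zero]; exact one_mem _
            | succ k ih =>
              rcases ih with h | ⟨l, hl, h⟩
              · right; exact ⟨e ^ k, h, pow_succ e k⟩
              · left; rw [pow_succ, h, mul_assoc]; exact mul_mem hl hee
          have h3 : ∀ g, (g ∈ L ∨ ∃ l ∈ L, g = l * e) → (g⁻¹ ∈ L ∨ ∃ l ∈ L, g⁻¹ = l * e) := by
            rintro g (h | ⟨l, hl, rfl⟩)
            · left; exact inv_mem h
            · right
              refine ⟨(l * e)⁻¹ * e⁻¹, ?_, by group⟩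
              have h4 : (l * e)⁻¹ * e⁻¹ = e⁻¹ * l⁻¹ * e⁻¹⁻¹ * (e * e)⁻¹ := by group
              rw [h4]
              exact mul_mem (hL.conj_mem _ (inv_mem hl) _) (inv_mem hee)
          dsimp only
          rcases k with k | k
          · rw [Int.ofNat_eq_natCast, zpow_natCast]; exact h2 k
          · rw [zpow_negSucc]; exact h3 _ (h2 _)
      | one => exact Or.inl (one_mem _)
      | mul x y _ _ hx hy =>
        rcases hx with hx | ⟨l, hl, rfl⟩ <;> rcases hy with hy | ⟨l', hl', rfl⟩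
        · exact Or.inl (mul_mem hx hy)
        · exact Or.inr ⟨x * l', mul_mem hx hl', by group⟩
        · right
          refine ⟨l * (e * y * e⁻¹), mul_mem hl (hL.conj_mem _ hy _), by group⟩
        · left
          have h4 : l * e * (l' * e) = l * (e * l' * e⁻¹) * (e * e) := by group
          rw [h4]
          exact mul_mem (mul_mem hl (hL.conj_mem _ hl' _)) hee
      | inv x _ hx =>
        rcases hx with hx | ⟨l, hl, rfl⟩
        · exact Or.inl (inv_mem hx)
        · right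
          refine ⟨(l * e)⁻¹ * e⁻¹, ?_, by group⟩
          have h4 : (l * e)⁻¹ * e⁻¹ = e⁻¹ * l⁻¹ * e⁻¹⁻¹ * (e * e)⁻¹ := by group
          rw [h4]
          exact mul_mem (hL.conj_mem _ (inv_mem hl) _) (inv_mem hee)
    exact h1 g hg
  · rintro (h | ⟨l, hl, rfl⟩)
    · exact Subgroup.mem_sup_left h
    · exact mul_mem (Subgroup.mem_sup_left hl) (Subgroup.mem_sup_right (Subgroup.mem_zpowers e))

theorem Le_normal (hL : L.Normal) {e : Γ} (hee : e * e ∈ L) (hq : ∀ g : Γ, g * e * g⁻¹ * e⁻¹ ∈ L) : (Le L e).Normal := by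
  refine ⟨fun n hn g => ?_⟩
  rw [mem_Le hL hee] at hn ⊢
  rcases hn with h | ⟨l, hl, rfl⟩
  · exact Or.inl (hL.conj_mem _ h _)
  · right
    refine ⟨g * l * g⁻¹ * (g * e * g⁻¹ * e⁻¹), mul_mem (hL.conj_mem _ hl _) (hq g), by group⟩

namespace Frame

variable (F : Frame Z L P H x d a b)
include F

theorem comm_P {y y' : Γ} (hy : y ∈ P) (hy' : y' ∈ P) : y * y' = y' * y := by
  have h1 := F.dinv _ (mul_mem hy hy')
  have h2 : d * (y * y') * d⁻¹ = (d * y * d⁻¹) * (d * y' * d⁻¹) := by group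
  rw [h2, F.dinv y hy, F.dinv y' hy', mul_inv_rev] at h1
  have h3 := congrArg (·⁻¹) h1
  simp only [mul_inv_rev, inv_inv] at h3
  exact h3.symm

theorem eq_one_of_mem {z : Γ} (hz : z ∈ Z) (hP : z ∈ P) : z = 1 := by
  have h1 := F.P3 z hP
  have h2 : orderOf z ∣ 3 := orderOf_dvd_of_pow_eq_one h1
  have h3 : orderOf z ∣ Nat.card Z := Subgroup.orderOf_dvd_natCard Z hz
  rcases (Nat.dvd_prime Nat.prime_three).1 h2 with h | h
  · exact orderOf_eq_one_iff.1 h
  · rw [h] at h3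
    exact absurd h3 F.Z3

theorem H_inf_P {z : Γ} (hz : z ∈ H) (hP : z ∈ P) : z = 1 := by
  have h1 := F.P3 z hP
  have h2 : orderOf z ∣ 3 := orderOf_dvd_of_pow_eq_one h1
  have h3 : orderOf z ∣ Nat.card H := Subgroup.orderOf_dvd_natCard H hz
  rcases (Nat.dvd_prime Nat.prime_three).1 h2 with h | h
  · exact orderOf_eq_one_iff.1 h
  · rw [h] at h3
    exact absurd h3 F.H3

theorem zcomm {z : Γ} (hz : z ∈ Z) (g : Γ) : z * g = g * z :=
  (Subgroup.mem_center_iff.1 (F.Zc hz) g).symm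

/-- the centralizer of an element of `P` -/
theorem cent {y g : Γ} (hy : y ∈ P) (hy1 : y ≠ 1) (hg : g * y = y * g) :
    ∃ y' ∈ P, ∃ h ∈ H, h * y = y * h ∧ g = y' * h := by
  have h1 : g ∈ Subgroup.normalizer (P : Set Γ) := by
    refine F.ti g y hy hy1 ?_
    rw [hg, mul_inv_cancel_right]
    exact hy
  obtain ⟨y', hy', h, hh, rfl⟩ := F.N g h1
  refine ⟨y', hy', h, hh, ?_, rfl⟩
  have h2 : y' * (h * y) = y' * (y * h) := by
    rw [← mul_assoc, hg, ← mul_assoc, ← mul_assoc, F.comm_P hy hy']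
  exact mul_left_cancel h2

theorem sq_mem {e : Γ} (heH : e ∈ H) (hex : e * x = x * e) (hee : e * e ∈ L) : e * e ∈ Z := by
  refine F.cH _ (mul_mem heH heH) hee x F.xP F.x1 ?_
  rw [mul_assoc, hex, ← mul_assoc, hex, mul_assoc]

/-- the centralizer of `x` in `L⟨e⟩` -/
theorem cent_Le {e g : Γ} (heH : e ∈ H) (hex : e * x = x * e) (hee : e * e ∈ L) (hg : g ∈ Le L e)
    (hgx : g * x = x * g) : ∃ y ∈ P, ∃ z ∈ Z, g = y * z ∨ g = y * z * e := by
  obtain ⟨y, hy, h, hh, hhx, rfl⟩ := F.cent F.xP F.x1 hgx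
  have hyL : y ∈ L := F.PL hy
  have hhL : h ∈ Le L e := by
    have h1 : h = y⁻¹ * (y * h) := by group
    rw [h1]
    exact mul_mem (Subgroup.mem_sup_left (inv_mem hyL)) hg
  rw [mem_Le F.Ln hee] at hhL
  rcases hhL with h1 | ⟨l, hl, h1⟩
  · exact ⟨y, hy, h, F.cH h hh h1 x F.xP F.x1 hhx, Or.inl rfl⟩
  · have h2 : l = h * e⁻¹ := by rw [h1]; group
    have hlH : l ∈ H := by rw [h2]; exact mul_mem hh (inv_mem heH)
    have h3 : e⁻¹ * x = x * e⁻¹ := by
      rw [inv_mul_eq_iff_eq_mul, ← mul_assoc, hex, mul_inv_cancel_right]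
    have hlx : l * x = x * l := by
      rw [h2, mul_assoc, h3, ← mul_assoc, hhx, mul_assoc]
    refine ⟨y, hy, l, F.cH l hlH hl x F.xP F.x1 hlx, Or.inr ?_⟩
    rw [h1, mul_assoc]

/-- powers separate the 3-part -/
theorem pow_H {h : Γ} (hh : h ∈ H) : h ^ Nat.card H = 1 := by
  have h1 : orderOf h ∣ Nat.card H := Subgroup.orderOf_dvd_natCard H hh
  exact orderOf_dvd_iff_pow_eq_one.1 h1

theorem comm_of_pow {y g : Γ} (hy : y ∈ P) (hg : g * y ^ Nat.card H = y ^ Nat.card H * g) : g * y = y * g := by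
  have h3 : Nat.Coprime 3 (Nat.card H) := (Nat.Prime.coprime_iff_not_dvd Nat.prime_three).2 F.H3
  have h4 : ∃ k : ℕ, y = (y ^ Nat.card H) ^ k := by
    rcases (show Nat.card H % 3 = 1 ∨ Nat.card H % 3 = 2 by have := F.H3; omega) with h | h
    · refine ⟨1, ?_⟩
      rw [pow_one]
      conv_rhs => rw [← Nat.div_add_mod (Nat.card H) 3, h, pow_add, pow_mul, F.P3 y hy, one_pow, one_mul, pow_one]
    · refine ⟨2, ?_⟩
      have h5 : y ^ Nat.card H = y ^ 2 := by
        conv_lhs => rw [← Nat.div_add_mod (Nat.card H) 3, h, pow_add, pow_mul, F.P3 y hy, one_pow, one_mul]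
      rw [h5, ← pow_mul, show 2 * 2 = 3 + 1 by rfl, pow_add, F.P3 y hy, one_mul, pow_one]
  obtain ⟨k, hk⟩ := h4
  have h5 : Commute g (y ^ Nat.card H) := hg
  have h6 := h5.pow_right k
  rw [← hk] at h6
  exact h6

theorem comm_parts {e g : Γ} (heH : e ∈ H) (hex : e * x = x * e) (hg : g * (x * e) = x * e * g) :
    g * x = x * g ∧ g * e = e * g := by
  have h1 : Commute g (x * e) := hg
  have h2 : Commute x e := hex.symm
  have h3 := h1.pow_right (Nat.card H)
  rw [h2.mul_pow, F.pow_H heH, mul_one] at h3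
  have h4 := F.comm_of_pow F.xP h3
  refine ⟨h4, ?_⟩
  have h5 : x * (g * e) = x * (e * g) := by
    rw [← mul_assoc, ← h4, mul_assoc, hg, mul_assoc]
  exact mul_left_cancel h5

/-- elements of `P` commuting with `z e` modulo `Z` commute with `e` -/
theorem comm_of_comm_mod {e y z : Γ} (heH : e ∈ H) (hy : y ∈ P) (hz : z ∈ Z) (h : y * e * y⁻¹ = z * e) :
    z = 1 := by
  apply F.eq_one_of_mem hz
  have h1 : z = y * (e * y⁻¹ * e⁻¹) := by
    have : z = y * e * y⁻¹ * e⁻¹ := by rw [h, mul_inv_cancel_right]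
    rw [this]; group
  rw [h1]
  exact mul_mem hy ((Subgroup.mem_normalizer_iff.1 (F.HN heH) _).1 (inv_mem hy))

theorem card_cent_P {e : Γ} (hex : e * x = x * e) (hP : ¬ ∀ y ∈ P, e * y = y * e) [Finite Γ] :
    Nat.card (P ⊓ Subgroup.centralizer ({e} : Set Γ) : Subgroup Γ) = 3 := by
  set C := P ⊓ Subgroup.centralizer ({e} : Set Γ) with hC
  have h1 : Nat.card C ∣ 9 := by
    rw [← F.Pc]
    exact Subgroup.card_dvd_of_le inf_le_left
  have h2 : Nat.card C ≠ 9 := by
    intro h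
    apply hP
    intro y hy
    have h3 : C = P := by
      apply SetLike.coe_injective
      apply Set.eq_of_subset_of_ncard_le (show (C : Set Γ) ⊆ P from inf_le_left) ?_ (Set.toFinite _)
      rw [← Nat.card_coe_set_eq, ← Nat.card_coe_set_eq]
      exact (F.Pc.trans h.symm).le
    rw [← h3] at hy
    exact (Subgroup.mem_centralizer_singleton_iff.1 hy.2).symm
  have h3 : x ∈ C := ⟨F.xP, Subgroup.mem_centralizer_singleton_iff.2 hex.symm⟩
  have h4 : orderOf x ∣ Nat.card C := Subgroup.orderOf_dvd_natCard C h3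
  have h5 : orderOf x = 3 := orderOf_eq_prime (F.P3 x F.xP) F.x1
  rw [h5] at h4
  have h6 : Nat.card C ≤ 9 := Nat.le_of_dvd (by norm_num) h1
  obtain ⟨k, hk⟩ := h4
  rw [hk] at h1 h2 h6 ⊢
  have h7 : k ≤ 3 := by omega
  have h8 : k ≠ 0 := by
    rintro rfl
    have : 0 < Nat.card C := Nat.card_pos
    omega
  have h9 : k ≠ 3 := fun h => h2 (by rw [h])
  have h10 : k ≠ 2 := fun h => by rw [h] at h1; norm_num at h1
  have h11 : k = 1 := by omega
  rw [h11]

theorem card_cent_P' {e : Γ} (hP : ∀ y ∈ P, e * y = y * e) :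
    Nat.card (P ⊓ Subgroup.centralizer ({e} : Set Γ) : Subgroup Γ) = 9 := by
  rw [← F.Pc]
  congr 2
  apply inf_eq_left.2
  intro y hy
  exact Subgroup.mem_centralizer_singleton_iff.2 (hP y hy).symm

/-- the centralizer of `x e` in `L⟨e⟩` -/
theorem card_cent_Le [Finite Γ] {e : Γ} (heH : e ∈ H) (heL : e ∉ L) (hex : e * x = x * e) (hee : e * e ∈ L) :
    Nat.card {g : Γ // g ∈ Le L e ∧ g * (x * e) = x * e * g} =
      2 * Nat.card (P ⊓ Subgroup.centralizer ({e} : Set Γ) : Subgroup Γ) * Nat.card Z := by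
  classical
  set C := P ⊓ Subgroup.centralizer ({e} : Set Γ) with hC
  have hb : Nat.card (Fin 2) = 2 := by simp
  rw [← hb, ← Nat.card_prod, ← Nat.card_prod]
  symm
  have hxe : ∀ y ∈ C, ∀ z ∈ Z, (y * z) * (x * e) = x * e * (y * z) := by
    intro y hy z hz
    have h1 : y * e = e * y := Subgroup.mem_centralizer_singleton_iff.1 hy.2
    have h2 : y * x = x * y := F.comm_P hy.1 F.xP
    calc (y * z) * (x * e) = y * (z * (x * e)) := mul_assoc _ _ _
      _ = y * (x * e * z) := by rw [F.zcomm hz]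
      _ = (y * x) * e * z := by group
      _ = x * (y * e) * z := by rw [h2]; group
      _ = x * (e * y) * z := by rw [h1]
      _ = x * e * (y * z) := by group
  have hee' : (e : Γ) * (x * e) = x * e * e := by rw [← mul_assoc, hex]
  refine Nat.card_congr (Equiv.ofBijective
    (fun t : (Fin 2 × C) × Z => (⟨(t.1.2 : Γ) * t.2 * (if t.1.1 = 0 then 1 else e), ?_, ?_⟩ :
      {g : Γ // g ∈ Le L e ∧ g * (x * e) = x * e * g})) ⟨?_, ?_⟩)
  · have h1 : (t.1.2 : Γ) * t.2 ∈ L := mul_mem (F.PL t.1.2.2.1) (F.ZL t.2.2)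
    split
    · rw [mul_one]; exact Subgroup.mem_sup_left h1
    · exact mul_mem (Subgroup.mem_sup_left h1) (Subgroup.mem_sup_right (Subgroup.mem_zpowers e))
  · have h1 := hxe t.1.2 t.1.2.2 t.2 t.2.2
    split
    · rw [mul_one]; exact h1
    · rw [mul_assoc, hee', ← mul_assoc, h1]
      group
  · rintro ⟨⟨s, y⟩, z⟩ ⟨⟨s', y'⟩, z'⟩ h
    have h1 := congrArg Subtype.val h
    dsimp only at h1
    have hyz : (y : Γ) * z ∈ L := mul_mem (F.PL y.2.1) (F.ZL z.2)
    have hyz' : (y' : Γ) * z' ∈ L := mul_mem (F.PL y'.2.1) (F.ZL z'.2)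
    have h2 : s = s' := by
      fin_cases s <;> fin_cases s'
      · rfl
      · exfalso
        apply heL
        have h3 : e = ((y' : Γ) * z')⁻¹ * (y * z) := by
          simp only [Fin.zero_eta, Fin.isValue, ↓reduceIte, mul_one, Fin.mk_one, one_ne_zero] at h1
          rw [h1, inv_mul_cancel_left]
        rw [h3]; exact mul_mem (inv_mem hyz') hyz
      · exfalso
        apply heL
        have h3 : e = ((y : Γ) * z)⁻¹ * (y' * z') := by
          simp only [Fin.zero_eta, Fin.isValue, ↓reduceIte, mul_one, Fin.mk_one, one_ne_zero] at h1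
          rw [← h1, inv_mul_cancel_left]
        rw [h3]; exact mul_mem (inv_mem hyz) hyz'
      · rfl
    subst h2
    have h3 := mul_right_cancel h1
    have h4 : (y' : Γ)⁻¹ * y = z' * (z : Γ)⁻¹ := by
      rw [inv_mul_eq_iff_eq_mul, ← mul_assoc, ← h3, mul_inv_cancel_right]
    have h5 : (y' : Γ)⁻¹ * y = 1 :=
      F.eq_one_of_mem (by rw [h4]; exact mul_mem z'.2 (inv_mem z.2)) (mul_mem (inv_mem y'.2.1) y.2.1)
    have h6 : y = y' := Subtype.ext (inv_mul_eq_one.1 h5).symm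
    rw [h5] at h4
    have h7 : z = z' := Subtype.ext (mul_inv_eq_one.1 h4.symm).symm
    rw [h6, h7]
  · rintro ⟨g, hg, hgc⟩
    obtain ⟨hgx, hge⟩ := F.comm_parts heH hex hgc
    obtain ⟨y, hy, z, hz, h⟩ := F.cent_Le heH hex hee hg hgx
    have hyC : y ∈ C := by
      refine ⟨hy, Subgroup.mem_centralizer_singleton_iff.2 ?_⟩
      rcases h with rfl | rfl
      · rw [mul_assoc, F.zcomm hz, ← mul_assoc] at hge
        have := mul_right_cancel (a := y * e) (b := z) (c := e * y) (by rw [hge, mul_assoc])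
        exact this
      · have h1 : y * e * (z * e) = e * y * (z * e) := by
          have h2 : y * z * e * e = y * e * (z * e) := by
            calc y * z * e * e = y * (z * e) * e := by group
              _ = y * (e * z) * e := by rw [F.zcomm hz e]
              _ = y * e * (z * e) := by group
          have h3 : e * (y * z * e) = e * y * (z * e) := by group
          rw [← h2, hge, h3]
        exact mul_right_cancel h1
    rcases h with rfl | rfl
    · exact ⟨((0, ⟨y, hyC⟩), ⟨z, hz⟩), Subtype.ext (by simp)⟩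
    · exact ⟨((1, ⟨y, hyC⟩), ⟨z, hz⟩), Subtype.ext (by simp)⟩

/-- elements of `H` commuting with an element of `P` are in `Z` if they lie in `L` -/
theorem mem_Z_of_comm {e : Γ} (heH : e ∈ H) (hex : e * x = x * e) (heL : e ∈ L) : e ∈ Z :=
  F.cH e heH heL x F.xP F.x1 hex

/-! ### The subgroups `L ∩ K` and `L⟨e⟩ ∩ K`, `P H ≤ K` -/

variable {K : Subgroup Γ}

theorem le_K (hPK : P ≤ K) (hHK : H ≤ K) {g : Γ} (hgx : g * x = x * g) : g ∈ K := by
  obtain ⟨y, hy, h, hh, -, rfl⟩ := F.cent F.xP F.x1 hgx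
  exact mul_mem (hPK hy) (hHK hh)

/-- the index 2 pair -/
theorem pair {e : Γ} (heH : e ∈ H) (heL : e ∉ L) (hex : e * x = x * e) (hee : e * e ∈ L) (hHK : H ≤ K)
    (hZ : Z ≤ L ⊓ K) (hA : L ⊓ K ≤ Le L e ⊓ K) :
    Pair (Subgroup.inclusion hZ) (Subgroup.inclusion hA) := by
  refine ⟨Subgroup.inclusion_injective _, Subgroup.inclusion_injective _, ?_, fun z w => ?_⟩
  · have heK : e ∈ Le L e ⊓ K := ⟨Subgroup.mem_sup_right (Subgroup.mem_zpowers e), hHK heH⟩
    rw [Subgroup.index_eq_two_iff]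
    refine ⟨⟨e, heK⟩⁻¹, fun w => ?_⟩
    have hr : ∀ w : (Le L e ⊓ K : Subgroup Γ), w ∈ (Subgroup.inclusion hA).range ↔ (w : Γ) ∈ L := by
      intro w
      constructor
      · rintro ⟨t, rfl⟩
        exact t.2.1
      · intro h
        exact ⟨⟨w, h, w.2.2⟩, rfl⟩
    rw [hr, hr]
    have hw : (w : Γ) ∈ Le L e := w.2.1
    rw [mem_Le F.Ln hee] at hw
    have hwe : ((w * ⟨e, heK⟩⁻¹ : (Le L e ⊓ K : Subgroup Γ)) : Γ) = (w : Γ) * e⁻¹ := rfl
    rw [hwe]
    rcases hw with hw | ⟨l, hl, hw⟩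
    · right
      refine ⟨hw, fun h => heL ?_⟩
      have h1 : e = ((w : Γ) * e⁻¹)⁻¹ * w := by group
      rw [h1]; exact mul_mem (inv_mem h) hw
    · left
      rw [hw, mul_inv_cancel_right]
      refine ⟨hl, fun h => heL ?_⟩
      have h1 : e = l⁻¹ * (l * e) := by group
      rw [h1]; exact mul_mem (inv_mem hl) h
  · apply Subtype.ext
    exact F.zcomm z.2 w

theorem elt [Finite Γ] (lam : Z →* ℂˣ) {e : Γ} (heH : e ∈ H) (heL : e ∉ L) (hex : e * x = x * e) (hee : e * e ∈ L)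
    (hPK : P ≤ K) (hHK : H ≤ K) (hZ : Z ≤ L ⊓ K) (hA : L ⊓ K ≤ Le L e ⊓ K) (hx : x ∈ L ⊓ K)
    (he : e ∈ Le L e ⊓ K) (hd : d ∈ Le L e ⊓ K) {m : ℂ} (hm : m ^ 2 = (lam ⟨e * e, F.sq_mem heH hex hee⟩ : ℂ)) {n : ℕ}
    (hn : Nat.card (P ⊓ Subgroup.centralizer ({e} : Set Γ) : Subgroup Γ) = n)
    (hvan : ∀ χ : IrrCharacter (Le L e ⊓ K : Subgroup Γ),
      Over ((Subgroup.inclusion hA).comp (Subgroup.inclusion hZ)) lam (χ : (Le L e ⊓ K : Subgroup Γ) → ℂ) →
      (χ : (Le L e ⊓ K : Subgroup Γ) → ℂ) (Subgroup.inclusion hA ⟨x, hx⟩) = 0 →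
      (χ : (Le L e ⊓ K : Subgroup Γ) → ℂ) (Subgroup.inclusion hA ⟨x, hx⟩ * ⟨e, he⟩) = 0) :
    Elt (Subgroup.inclusion hZ) (Subgroup.inclusion hA) lam ⟨x, hx⟩ ⟨e, he⟩ ⟨d, hd⟩ ⟨e * e, F.sq_mem heH hex hee⟩ m n where
  x3 := Subtype.ext (F.P3 x F.xP)
  x1 := fun h => F.x1 (congrArg Subtype.val h)
  cA := by
    rintro ⟨t, ht⟩
    apply heL
    have h1 := congrArg Subtype.val ht
    change (t : Γ) = e at h1
    rw [← h1]
    exact t.2.1
  cc := rfl
  mm := hm
  cx := Subtype.ext hex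
  dc := Subtype.ext (F.dc e heH).symm
  dx := Subtype.ext (F.dinv x F.xP)
  card := by
    rw [← hn, ← F.card_cent_Le heH heL hex hee]
    refine Nat.card_congr ⟨fun g => ⟨(g : (Le L e ⊓ K : Subgroup Γ)), (g : (Le L e ⊓ K : Subgroup Γ)).2.1, ?_⟩,
      fun g => ⟨⟨g, g.2.1, ?_⟩, ?_⟩, fun g => rfl, fun g => rfl⟩
    · exact congrArg Subtype.val (Subgroup.mem_centralizer_singleton_iff.1 g.2)
    · exact F.le_K hPK hHK (F.comm_parts heH hex g.2.2).1
    · exact Subgroup.mem_centralizer_singleton_iff.2 (Subtype.ext g.2.2)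
  good := by
    intro z hz
    obtain ⟨g, hg⟩ := isConj_iff.1 hz
    have h1 : (g : Γ) * (x * e) * (g : Γ)⁻¹ = z * (x * e) := congrArg Subtype.val hg
    have h2 : Commute x e := hex.symm
    have h3 := congrArg (· ^ Nat.card H) h1
    simp only [conj_pow] at h3
    have h4 : Commute (z : Γ) (x * e) := F.zcomm z.2 _
    rw [h4.mul_pow, h2.mul_pow, F.pow_H heH, mul_one, F.pow_H (F.ZH z.2), one_mul] at h3
    have h5 : (g : Γ) * x = x * g := F.comm_of_pow F.xP (by rw [mul_inv_eq_iff_eq_mul] at h3; exact h3)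
    obtain ⟨y, hy, z', hz', h⟩ := F.cent_Le heH hex hee g.2.1 h5
    have h6 : (g : Γ) * e * (g : Γ)⁻¹ = z * e := by
      have h7 : (g : Γ) * (x * e) * (g : Γ)⁻¹ = x * ((g : Γ) * e * (g : Γ)⁻¹) := by
        rw [← mul_assoc, h5]; group
      have h9 : x * ((g : Γ) * e * (g : Γ)⁻¹) = x * (z * e) := by
        rw [← h7, h1, ← mul_assoc, F.zcomm z.2 x, mul_assoc]
      exact mul_left_cancel h9
    apply Subtype.ext
    refine F.comm_of_comm_mod heH hy z.2 ?_
    rw [← h6]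
    rcases h with h | h
    · rw [h]
      have h8 : y * z' * e * (y * z')⁻¹ = y * (z' * e * z'⁻¹) * y⁻¹ := by group
      rw [h8, F.zcomm hz', mul_inv_cancel_right]
    · rw [h]
      have h8 : y * z' * e * e * (y * z' * e)⁻¹ = y * (z' * e * z'⁻¹) * y⁻¹ := by group
      rw [h8, F.zcomm hz', mul_inv_cancel_right]
  van := hvan

end Frame

end Cfsg.Agent.H155.TI
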