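import Mathlib
import Cfsg.Prelude.Def_Characters
import Cfsg.Prelude.Def_Blocks
import Cfsg.Agent.H723.TI.Defs

/-!
# S4819, S4820: the row `PSL₃(4)`, `p = 3` : interface (helper155)

Everything is reduced to a central subgroup `Z` (of order prime to 3) of a group `Γ` and a linear character `lam` of `Z`.
`j : Z →* W` is a central embedding; `Over j lam χ` : `χ` lies over `lam`.
-/

set_option autoImplicit false

namespace Cfsg.Agent.H155.TI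

open Cfsg
open scoped Pointwise

universe u

section

variable {Z A W : Type u} [Group Z] [Group A] [Group W]

/-- `χ` lies over the linear character `lam` of the central subgroup `j Z` -/
def Over (j : Z →* W) (lam : Z →* ℂˣ) (χ : W → ℂ) : Prop :=
  ∀ (z : Z) (w : W), χ (j z * w) = (lam z : ℂ) * χ w

/-- the number of irreducible characters over `lam` not vanishing at `x` -/
noncomputable def nz (j : Z →* W) (lam : Z →* ℂˣ) (x : W) : ℕ :=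
  Nat.card {χ : IrrCharacter W // Over j lam (χ : W → ℂ) ∧ (χ : W → ℂ) x ≠ 0}

/-- six members over `lam` do not vanish at `x` : five have value `±1`, one has value `±2` -/
structure Six (j : Z →* A) (lam : Z →* ℂˣ) (x : A) : Prop where
  int : ∀ η : IrrCharacter A, Over j lam (η : A → ℂ) → ∃ w : ℤ, (η : A → ℂ) x = w ∧ |w| ≤ 2
  five : Nat.card {η : IrrCharacter A // Over j lam (η : A → ℂ) ∧
    ((η : A → ℂ) x = 1 ∨ (η : A → ℂ) x = -1)} = 5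
  one : Nat.card {η : IrrCharacter A // Over j lam (η : A → ℂ) ∧
    ((η : A → ℂ) x = 2 ∨ (η : A → ℂ) x = -2)} = 1

/-- the class function `η` of `A` is invariant under the element `c` of `W` -/
def Inv (i : A →* W) (c : W) (η : A → ℂ) : Prop :=
  ∀ a a' : A, i a' = c * i a * c⁻¹ → η a' = η a

/-- `A` is (via `i`) a subgroup of index 2 of `W`, `Z` is central in `W` -/
structure Pair (j : Z →* A) (i : A →* W) : Prop where
  ji : Function.Injective j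
  ii : Function.Injective i
  idx : i.range.index = 2
  cen : ∀ (z : Z) (w : W), i (j z) * w = w * i (j z)

/-- `x ∈ A` of order 3, `c ∈ W \ A` commutes with `x`, `c² = i (j zc)`, `m² = lam zc`; `d` inverts `x` and commutes with
`c`; `|C_W(x c)| = 2 n |Z|`; characters vanishing at `x` vanish at `x c`. -/
structure Elt (j : Z →* A) (i : A →* W) (lam : Z →* ℂˣ) (x : A) (c d : W) (zc : Z) (m : ℂ) (n : ℕ) : Prop where
  x3 : x ^ 3 = 1
  x1 : x ≠ 1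
  cA : c ∉ i.range
  cc : c * c = i (j zc)
  mm : m ^ 2 = (lam zc : ℂ)
  cx : c * i x = i x * c
  dc : d * c = c * d
  dx : d * i x * d⁻¹ = (i x)⁻¹
  card : Nat.card (Subgroup.centralizer ({i x * c} : Set W)) = 2 * n * Nat.card Z
  good : ∀ z : Z, IsConj (i x * c) (i (j z) * (i x * c)) → z = 1
  van : ∀ χ : IrrCharacter W, Over (i.comp j) lam (χ : W → ℂ) → (χ : W → ℂ) (i x) = 0 →
    (χ : W → ℂ) (i x * c) = 0

end

/-- a central subgroup is contained in every normalizer -/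
theorem le_norm {Γ : Type u} [Group Γ] {Z : Subgroup Γ} (h : Z ≤ Subgroup.center Γ) (P : Subgroup Γ) :
    Z ≤ Subgroup.normalizer (P : Set Γ) :=
  h.trans (fun z hz => by
    rw [Subgroup.mem_normalizer_iff]
    intro y
    have h1 := Subgroup.mem_center_iff.1 hz y
    have h2 : z * y * z⁻¹ = y := by rw [← h1, mul_inv_cancel_right]
    rw [h2])

/-- the central situation: `Z` central of order prime to 3, `Γ / Z` almost simple with socle `S ≅ PSL₃(4)`, `P` a TI Sylow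
3-subgroup whose image lies in `S` -/
structure CenSit {Γ : Type u} [Group Γ] (Z : Subgroup Γ) [Z.Normal] (P : Sylow 3 Γ) (S : Subgroup (Γ ⧸ Z)) :
    Prop where
  cen : Z ≤ Subgroup.center Γ
  z3 : ¬ 3 ∣ Nat.card Z
  normal : S.Normal
  iso : ∃ (F : Type) (_ : Field F) (_ : Fintype F), Fintype.card F = 4 ∧
    Nonempty (S ≃* Matrix.ProjectiveSpecialLinearGroup (Fin 3) F)
  cent : Subgroup.centralizer (S : Set (Γ ⧸ Z)) = ⊥
  img : (P : Subgroup Γ).map (QuotientGroup.mk' Z) ≤ S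
  ti : Cfsg.Agent.H723.TI.TIs P

/-- **The central count**: characters over `lam` of degree not divisible by 9 -/
def CL : Prop :=
  ∀ (Γ : Type u) [Group Γ] [Finite Γ] (Z : Subgroup Γ) [Z.Normal] (P : Sylow 3 Γ) (S : Subgroup (Γ ⧸ Z))
    (h : CenSit Z P S) (lam : Z →* ℂˣ),
    Nat.card {χ : IrrCharacter Γ // Over Z.subtype lam (χ : Γ → ℂ) ∧ ¬ 9 ∣ charDegree (χ : Γ → ℂ)} =
      Nat.card {ψ : IrrCharacter (Subgroup.normalizer ((P : Subgroup Γ) : Set Γ)) //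
        Over (Subgroup.inclusion (le_norm h.cen (P : Subgroup Γ))) lam
          (ψ : Subgroup.normalizer ((P : Subgroup Γ) : Set Γ) → ℂ)}

/-- The frame: `L = E Z` (`E` quasisimple), `H` a complement of `P` in `N_Γ(P)`, `d` the involution of `H` inverting `P`,
`H ∩ L / Z ≅ Q₈` generated by `a`, `b`. -/
structure Frame {Γ : Type u} [Group Γ] (Z L P H : Subgroup Γ) (x d a b : Γ) : Prop where
  Zc : Z ≤ Subgroup.center Γ
  Z3 : ¬ 3 ∣ Nat.card Z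
  ZH : Z ≤ H
  ZL : Z ≤ L
  Ln : L.Normal
  PL : P ≤ L
  Pc : Nat.card P = 9
  P3 : ∀ y ∈ P, y ^ 3 = 1
  Pidx : ¬ 3 ∣ P.index
  HN : H ≤ Subgroup.normalizer (P : Set Γ)
  H3 : ¬ 3 ∣ Nat.card H
  N : ∀ g ∈ Subgroup.normalizer (P : Set Γ), ∃ y ∈ P, ∃ h ∈ H, g = y * h
  HL : ∀ g : Γ, ∃ l ∈ L, ∃ h ∈ H, g = l * h
  xP : x ∈ P
  x1 : x ≠ 1
  dH : d ∈ H
  dL : d ∈ L
  dd : d * d = 1
  dc : ∀ h ∈ H, h * d = d * h
  dinv : ∀ y ∈ P, d * y * d⁻¹ = y⁻¹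
  tr : ∀ y ∈ P, y ≠ 1 → ∃ h ∈ H, h ∈ L ∧ h * x * h⁻¹ = y
  cH : ∀ h ∈ H, h ∈ L → ∀ y ∈ P, y ≠ 1 → h * y = y * h → h ∈ Z
  cL : ∀ g ∈ L, ∀ y ∈ P, y ≠ 1 → g * y = y * g → ∃ y' ∈ P, ∃ z ∈ Z, g = y' * z
  ti : ∀ (g : Γ), ∀ y ∈ P, y ≠ 1 → g * y * g⁻¹ ∈ P → g ∈ Subgroup.normalizer (P : Set Γ)
  aH : a ∈ H
  aL : a ∈ L
  bH : b ∈ H
  bL : b ∈ L
  ab : a * b * a⁻¹ * b⁻¹ = d
  aa : ∃ z ∈ Z, a * a = d * z
  bb : ∃ z ∈ Z, b * b = d * z
  gen : ∀ h ∈ H, h ∈ L → ∃ z ∈ Z, h = z ∨ h = z * a ∨ h = z * b ∨ h = z * (a * b) ∨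
    h = z * d ∨ h = z * (d * a) ∨ h = z * (d * b) ∨ h = z * (d * (a * b))

/-- The possible outer parts. `c`, `r ∈ C_H(x)`. In the index 4 case `c` centralizes `P` and `r` does not. -/
def Outer {Γ : Type u} [Group Γ] (L P H : Subgroup Γ) (x : Γ) : Prop :=
  L.index = 1 ∨
  (L.index = 2 ∧ ∃ c ∈ H, c ∉ L ∧ c * x = x * c) ∨
  (L.index = 4 ∧ ∃ c ∈ H, ∃ r ∈ H, c ∉ L ∧ r ∉ L ∧ c * r ∉ L ∧ c * c ∈ L ∧ r * r ∈ L ∧
    (∀ y ∈ P, c * y = y * c) ∧ r * x = x * r ∧ ¬ (∀ y ∈ P, r * y = y * r))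

/-- **GOAL FRAME** -/
def GoalFrame : Prop :=
  ∀ (Γ : Type u) [Group Γ] [Finite Γ] (Z : Subgroup Γ) [Z.Normal] (P : Sylow 3 Γ) (S : Subgroup (Γ ⧸ Z)),
    CenSit Z P S → ∃ (H : Subgroup Γ) (x d a b : Γ),
      Frame Z (S.comap (QuotientGroup.mk' Z)) (P : Subgroup Γ) H x d a b ∧
      Outer (S.comap (QuotientGroup.mk' Z)) (P : Subgroup Γ) H x

/-- **GOAL R** : the block theoretic reduction -/
def GoalR : Prop := CL.{u} → Cfsg.Agent.H723.TI.RowL34.{u}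

/-! ### The level of `L` (`L / Z ≅ PSL₃(4)`) -/

/-- `Z` central in `L` of order prime to 3, `L / Z ≅ PSL₃(4)` -/
structure LSit (L : Type u) [Group L] (Z : Subgroup L) [Z.Normal] : Prop where
  cen : Z ≤ Subgroup.center L
  z3 : ¬ 3 ∣ Nat.card Z
  iso : ∃ (F : Type) (_ : Field F) (_ : Fintype F), Fintype.card F = 4 ∧
    Nonempty ((L ⧸ Z) ≃* Matrix.ProjectiveSpecialLinearGroup (Fin 3) F)

/-- the number of members over `lam` of degree `n` -/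
noncomputable def dg {Z L : Type u} [Group Z] [Group L] (j : Z →* L) (lam : Z →* ℂˣ) (n : ℕ) : ℕ :=
  Nat.card {η : IrrCharacter L // Over j lam (η : L → ℂ) ∧ charDegree (η : L → ℂ) = n}

/-- the number of members over `lam` -/
noncomputable def mb {Z L : Type u} [Group Z] [Group L] (j : Z →* L) (lam : Z →* ℂˣ) : ℕ :=
  Nat.card {η : IrrCharacter L // Over j lam (η : L → ℂ)}

/-- the four tables -/
def TabOne {Z L : Type u} [Group Z] [Group L] (j : Z →* L) (lam : Z →* ℂˣ) : Prop :=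
  mb j lam = 10 ∧ dg j lam 1 = 1 ∧ dg j lam 20 = 1 ∧ dg j lam 35 = 3 ∧ dg j lam 45 = 2 ∧ dg j lam 63 = 2 ∧ dg j lam 64 = 1

/-- table `T0` -/
def TabT0 {Z L : Type u} [Group Z] [Group L] (j : Z →* L) (lam : Z →* ℂˣ) : Prop :=
  mb j lam = 6 ∧ dg j lam 8 = 2 ∧ dg j lam 56 = 1 ∧ dg j lam 64 = 1 ∧ dg j lam 80 = 2

/-- table `T1` -/
def TabT1 {Z L : Type u} [Group Z] [Group L] (j : Z →* L) (lam : Z →* ℂˣ) : Prop :=
  mb j lam = 7 ∧ dg j lam 20 = 1 ∧ dg j lam 28 = 2 ∧ dg j lam 36 = 1 ∧ dg j lam 64 = 1 ∧ dg j lam 80 = 2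

/-- table `T2` -/
def TabT2 {Z L : Type u} [Group Z] [Group L] (j : Z →* L) (lam : Z →* ℂˣ) : Prop :=
  mb j lam = 8 ∧ dg j lam 10 = 2 ∧ dg j lam 28 = 2 ∧ dg j lam 36 = 1 ∧ dg j lam 64 = 1 ∧ dg j lam 70 = 1 ∧
    dg j lam 90 = 1

/-- **GOAL SIX** (level of `L`) : the six members, and the members vanishing at `x` -/
def GoalSix : Prop :=
  ∀ (L : Type u) [Group L] [Finite L] (Z : Subgroup L) [Z.Normal], LSit L Z → ∀ (lam : Z →* ℂˣ) (x : L), orderOf x = 3 →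
    Six Z.subtype lam x ∧ ∀ η : IrrCharacter L, Over Z.subtype lam (η : L → ℂ) →
      ((η : L → ℂ) x = 0 ↔ 9 ∣ charDegree (η : L → ℂ))

/-- **GOAL TAB** (level of `L`) : the tables. `lam ∈ Irr(Z)`; (1) `lam` trivial on `Z ∩ L'`; (2) the general table;
(3) `lam ^ 2` trivial on `Z ∩ L'` and `lam` not. `y5`, `y7 ∈ L'` of order 5, 7. -/
def GoalTab : Prop :=
  ∀ (L : Type u) [Group L] [Finite L] (Z : Subgroup L) [Z.Normal], LSit L Z → ∀ (lam : Z →* ℂˣ),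
    ((∀ z : Z, (z : L) ∈ commutator L → lam z = 1) → TabOne Z.subtype lam) ∧
    (¬ (∀ z : Z, (z : L) ∈ commutator L → lam z = 1) →
      TabT0 Z.subtype lam ∨ TabT1 Z.subtype lam ∨ TabT2 Z.subtype lam) ∧
    ((∀ z : Z, (z : L) ∈ commutator L → lam z ^ 2 = 1) → ¬ (∀ z : Z, (z : L) ∈ commutator L → lam z = 1) →
      TabT2 Z.subtype lam) ∧
    (∀ y5 ∈ commutator L, orderOf y5 = 5 →
      (∀ η : IrrCharacter L, Over Z.subtype lam (η : L → ℂ) →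
        (charDegree (η : L → ℂ) = 63 ∨ charDegree (η : L → ℂ) = 8 ∨ charDegree (η : L → ℂ) = 28) →
        (η : L → ℂ) (y5 ^ 2) ≠ (η : L → ℂ) y5) ∧
      ∀ y ∈ commutator L, orderOf y = 5 → IsConj y y5 ∨ IsConj y (y5 ^ 2)) ∧
    (∀ y7 ∈ commutator L, orderOf y7 = 7 →
      (∀ η : IrrCharacter L, Over Z.subtype lam (η : L → ℂ) →
        (charDegree (η : L → ℂ) = 45 ∨ charDegree (η : L → ℂ) = 80 ∨ charDegree (η : L → ℂ) = 10) →
        (η : L → ℂ) y7⁻¹ ≠ (η : L → ℂ) y7) ∧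
      ∀ y ∈ commutator L, orderOf y = 7 → IsConj y y7 ∨ IsConj y y7⁻¹)

/-! ### Local pieces and the sign -/

/-- The characters `χ` of `K` over `lam` with `χ|_A` irreducible and `χ(x)² = 4` are invariant under `r`. -/
def Kap {Γ : Type u} [Group Γ] {Z A K : Subgroup Γ} (hZA : Z ≤ A) (hAK : A ≤ K) (lam : Z →* ℂˣ) (x r : Γ) : Prop :=
  ∀ χ : IrrCharacter K, Over (Subgroup.inclusion (hZA.trans hAK)) lam (χ : K → ℂ) →
    IsIrrCharacter A (fun a => (χ : K → ℂ) (Subgroup.inclusion hAK a)) →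
    (∀ x' : K, (x' : Γ) = x → (χ : K → ℂ) x' ^ 2 = 4) →
    ∀ k k' : K, (k' : Γ) = r * k * r⁻¹ → (χ : K → ℂ) k' = (χ : K → ℂ) k

/-- the index 4 case, `c` not neutral (`H ∩ L` moves the extensions of `lam` to `Z⟨c⟩`), `β = lam [c, r] ≠ 1` -/
structure NonNeutral {Γ : Type u} [Group Γ] (Z L P H : Subgroup Γ) (lam : Z →* ℂˣ) (x c r : Γ) : Prop where
  idx : L.index = 4
  cH : c ∈ H
  rH : r ∈ H
  cL : c ∉ L
  rL : r ∉ L
  crL : c * r ∉ L
  ccL : c * c ∈ L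
  rrL : r * r ∈ L
  cP : ∀ y ∈ P, c * y = y * c
  rx : r * x = x * r
  rP : ¬ (∀ y ∈ P, r * y = y * r)
  non : ∃ h ∈ H, h ∈ L ∧ ∃ z : Z, h * c * h⁻¹ = z * c ∧ lam z ≠ 1
  beta : ∃ z : Z, r * c * r⁻¹ = z * c ∧ lam z ≠ 1

/-- **GOAL SIXN** : the six members for `N_L(P)` -/
def GoalSixN : Prop :=
  ∀ (Γ : Type u) [Group Γ] [Finite Γ] (Z L P H : Subgroup Γ) (x d a b : Γ), Frame Z L P H x d a b →
    ∀ (lam : Z →* ℂˣ) (hZ : Z ≤ L ⊓ Subgroup.normalizer (P : Set Γ)) (hx : x ∈ L ⊓ Subgroup.normalizer (P : Set Γ)),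
      Six (Subgroup.inclusion hZ) lam ⟨x, hx⟩

/-- **GOAL KAPN** : the sign for `N_Γ(P)` -/
def GoalKapN : Prop :=
  ∀ (Γ : Type u) [Group Γ] [Finite Γ] (Z L P H : Subgroup Γ) (x d a b c r : Γ), Frame Z L P H x d a b →
    ∀ (lam : Z →* ℂˣ), NonNeutral Z L P H lam x c r →
    ∀ (hZ : Z ≤ L ⊓ Subgroup.normalizer (P : Set Γ))
      (hK : L ⊓ Subgroup.normalizer (P : Set Γ) ≤ (L ⊔ Subgroup.zpowers c) ⊓ Subgroup.normalizer (P : Set Γ)),
      Kap hZ hK lam x r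

/-- **GOAL KAPG** : the sign for `Γ` -/
def GoalKapG : Prop :=
  ∀ (Γ : Type u) [Group Γ] [Finite Γ] (Z L P H : Subgroup Γ) (x d a b c r : Γ), Frame Z L P H x d a b →
    (∃ _ : (Z.subgroupOf L).Normal, LSit L (Z.subgroupOf L)) →
    ∀ (lam : Z →* ℂˣ), NonNeutral Z L P H lam x c r →
    ∀ (hZ : Z ≤ L) (hK : L ≤ L ⊔ Subgroup.zpowers c), Kap hZ hK lam x r

/-- **GOAL AUT** : the outer automorphisms of `PSL₃(4)` of order prime to 3 -/
def GoalAut : Prop :=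
  ∀ (X : Type u) [Group X] [Finite X] (S : Subgroup X) [S.Normal], (∃ (F : Type) (_ : Field F) (_ : Fintype F),
    Fintype.card F = 4 ∧ Nonempty (S ≃* Matrix.ProjectiveSpecialLinearGroup (Fin 3) F)) →
    Subgroup.centralizer (S : Set X) = ⊥ → ¬ 3 ∣ S.index →
    S.index = 1 ∨ S.index = 2 ∨ (S.index = 4 ∧ (∀ g : X, g * g ∈ S) ∧
      ∀ Q : Sylow 3 X, ∃ g : X, ∀ s ∈ S, ∃ y ∈ (Q : Subgroup X), s * g * y ≠ y * (s * g))

end Cfsg.Agent.H155.TI
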