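import Cfsg.Agent.H155.TI.Grp

/-!
# The row `PSL₃(4)`: fusion (helper155)
-/

set_option autoImplicit false
set_option linter.unusedSectionVars false

namespace Cfsg.Agent.H155.TI

open Cfsg
open scoped Pointwise

universe u

/-- Sylow conjugacy inside a subgroup -/
theorem conj_in {Γ : Type u} [Group Γ] [Finite Γ] {p : ℕ} [Fact p.Prime] (C P₁ P₂ : Subgroup Γ) (h1 : P₁ ≤ C) (h2 : P₂ ≤ C)
    (hp1 : IsPGroup p P₁) (hp2 : IsPGroup p P₂) (hi1 : ¬ p ∣ P₁.index) (hi2 : ¬ p ∣ P₂.index) :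
    ∃ c ∈ C, ∀ y, y ∈ P₁ ↔ c * y * c⁻¹ ∈ P₂ := by
  have key : ∀ Q : Subgroup Γ, Q ≤ C → IsPGroup p Q → ¬ p ∣ Q.index →
      ∃ S : Sylow p C, (S : Subgroup C) = Q.subgroupOf C := by
    intro Q hQ hpQ hiQ
    have h3 : IsPGroup p (Q.subgroupOf C) :=
      hpQ.of_injective (Subgroup.subgroupOfEquivOfLe hQ).toMonoidHom (Subgroup.subgroupOfEquivOfLe hQ).injective
    refine ⟨h3.toSylow (fun h => hiQ ?_), rfl⟩
    exact h.trans (Subgroup.relIndex_dvd_index_of_le hQ)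
  obtain ⟨S₁, hS₁⟩ := key P₁ h1 hp1 hi1
  obtain ⟨S₂, hS₂⟩ := key P₂ h2 hp2 hi2
  obtain ⟨c, hc⟩ := MulAction.exists_smul_eq C S₁ S₂
  refine ⟨c, c.2, fun y => ?_⟩
  have h3 : ∀ y : C, y ∈ (S₁ : Subgroup C) ↔ c * y * c⁻¹ ∈ (S₂ : Subgroup C) := by
    intro y
    rw [← hc, Sylow.coe_subgroup_smul, Subgroup.mem_pointwise_smul_iff_inv_smul_mem]
    have h4 : (MulAut.conj c)⁻¹ • (c * y * c⁻¹) = y := by
      rw [← map_inv, MulAut.smul_def, MulAut.conj_apply]; group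
    rw [h4]
  constructor
  · intro hy
    have h4 := (h3 ⟨y, h1 hy⟩).1 (by rw [hS₁]; exact hy)
    rw [hS₂] at h4
    exact h4
  · intro hy
    have h5 : c * y * (c : Γ)⁻¹ ∈ C := h2 hy
    have h6 : y ∈ C := by
      have : y = (c : Γ)⁻¹ * (c * y * (c : Γ)⁻¹) * c := by group
      rw [this]
      exact mul_mem (mul_mem (inv_mem c.2) h5) c.2
    have h4 := (h3 ⟨y, h6⟩).2 (by rw [hS₂]; exact hy)
    rw [hS₁] at h4
    exact h4

variable {Γ : Type u} [Group Γ] {Z L P H : Subgroup Γ} {x d a b : Γ}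

namespace Frame

variable (F : Frame Z L P H x d a b)
include F

theorem pgroup : IsPGroup 3 P := IsPGroup.of_card (n := 2) (by rw [F.Pc]; rfl)

/-- `l⁻¹ e l ∈ Z e` for `l ∈ H ∩ L`, `e` centralizing `P` -/
theorem comm_mod {e l : Γ} (heH : e ∈ H) (heP : ∀ y ∈ P, e * y = y * e) (hlH : l ∈ H) (hlL : l ∈ L) :
    ∃ z : Z, l * e * l⁻¹ = z * e := by
  have h1 : l * e * l⁻¹ * e⁻¹ ∈ Z := by
    refine F.cH _ (mul_mem (mul_mem (mul_mem hlH heH) (inv_mem hlH)) (inv_mem heH)) ?_ x F.xP F.x1 ?_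
    · have : l * e * l⁻¹ * e⁻¹ = l * (e * l⁻¹ * e⁻¹) := by group
      rw [this]
      exact mul_mem hlL (F.Ln.conj_mem _ (inv_mem hlL) _)
    · have h2 : ∀ y ∈ P, l * e * l⁻¹ * e⁻¹ * y = y * (l * e * l⁻¹ * e⁻¹) := by
        intro y hy
        have h3 : l⁻¹ * y * l⁻¹⁻¹ ∈ P := (Subgroup.mem_normalizer_iff.1 (F.HN (inv_mem hlH)) _).1 hy
        have h4 := heP _ h3
        have h5 : e⁻¹ * y = y * e⁻¹ := by
          rw [inv_mul_eq_iff_eq_mul, ← mul_assoc, heP y hy, mul_inv_cancel_right]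
        calc l * e * l⁻¹ * e⁻¹ * y = l * e * l⁻¹ * (e⁻¹ * y) := by group
          _ = l * (e * (l⁻¹ * y * l⁻¹⁻¹)) * l⁻¹ * e⁻¹ := by rw [h5]; group
          _ = l * ((l⁻¹ * y * l⁻¹⁻¹) * e) * l⁻¹ * e⁻¹ := by rw [h4]
          _ = y * (l * e * l⁻¹ * e⁻¹) := by group
      exact h2 x F.xP
  exact ⟨⟨_, h1⟩, by group⟩

/-- fusion of `e` in `C(P)` -/
theorem fus [Finite Γ] {e g : Γ} (heH : e ∈ H) (heP : ∀ y ∈ P, e * y = y * e) (hee : e * e ∈ L) (hg : g ∈ Le L e)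
    (hgP : ∀ q ∈ P, g * e * g⁻¹ * q = q * (g * e * g⁻¹)) : ∃ l ∈ H, l ∈ L ∧ ∃ z : Z, g * e * g⁻¹ = z * e ∧ l * e * l⁻¹ = z * e := by
  set C : Subgroup Γ := Le L e ⊓ Subgroup.centralizer {e} with hC
  have hPL : P ≤ Le L e := F.PL.trans le_sup_left
  set P₂ : Subgroup Γ := P.map (MulAut.conj g⁻¹).toMonoidHom with hP₂
  have hmem : ∀ y, y ∈ P₂ ↔ g * y * g⁻¹ ∈ P := by
    intro y
    rw [hP₂, Subgroup.mem_map]
    constructor
    · rintro ⟨t, ht, rfl⟩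
      have : g * ((MulAut.conj g⁻¹).toMonoidHom t) * g⁻¹ = t := by
        change g * (g⁻¹ * t * g⁻¹⁻¹) * g⁻¹ = t
        group
      rw [this]; exact ht
    · intro h
      exact ⟨_, h, by change g⁻¹ * (g * y * g⁻¹) * g⁻¹⁻¹ = y; group⟩
  have h1 : P ≤ C := fun y hy => ⟨hPL hy, Subgroup.mem_centralizer_singleton_iff.2 (heP y hy).symm⟩
  have h2 : P₂ ≤ C := by
    intro y hy
    rw [hmem] at hy
    have hyL : y ∈ Le L e := by
      have : y = g⁻¹ * (g * y * g⁻¹) * g := by group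
      rw [this]
      exact mul_mem (mul_mem (inv_mem hg) (hPL hy)) hg
    refine ⟨hyL, Subgroup.mem_centralizer_singleton_iff.2 ?_⟩
    have h3 := hgP _ hy
    have h4 : g * (e * y) * g⁻¹ = g * (y * e) * g⁻¹ := by
      calc g * (e * y) * g⁻¹ = g * e * g⁻¹ * (g * y * g⁻¹) := by group
        _ = (g * y * g⁻¹) * (g * e * g⁻¹) := h3
        _ = _ := by group
    exact (mul_left_cancel (mul_right_cancel h4)).symm
  have hi2 : ¬ 3 ∣ P₂.index := by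
    rw [hP₂, Subgroup.index_map_of_bijective (MulAut.conj g⁻¹).bijective]
    exact F.Pidx
  obtain ⟨c, hc, hc'⟩ := conj_in (p := 3) C P P₂ h1 h2 F.pgroup (F.pgroup.map _) F.Pidx hi2
  -- n = g c normalizes P
  have hn : g * c ∈ Subgroup.normalizer (P : Set Γ) := by
    rw [Subgroup.mem_normalizer_iff]
    intro y
    rw [hc' y, hmem]
    have : g * (c * y * c⁻¹) * g⁻¹ = g * c * y * (g * c)⁻¹ := by group
    rw [this]
  obtain ⟨y, hy, h, hh, hgc⟩ := F.N _ hn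
  have hce : c * e = e * c := Subgroup.mem_centralizer_singleton_iff.1 hc.2
  have h3 : g * e * g⁻¹ = (g * c) * e * (g * c)⁻¹ := by
    have : (g * c) * e * (g * c)⁻¹ = g * (c * e * c⁻¹) * g⁻¹ := by group
    rw [this, hce, mul_inv_cancel_right]
  have hgq : g * e * g⁻¹ ∈ Subgroup.centralizer (P : Set Γ) := by
    rw [Subgroup.mem_centralizer_iff]
    intro q hq
    exact (hgP q hq).symm
  have h4 : g * e * g⁻¹ = h * e * h⁻¹ := by
    have h5 : g * e * g⁻¹ = y * (h * e * h⁻¹) * y⁻¹ := by rw [h3, hgc]; group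
    have h6 : y⁻¹ * (g * e * g⁻¹) * y = h * e * h⁻¹ := by rw [h5]; group
    rw [← h6]
    have h7 := Subgroup.mem_centralizer_iff.1 hgq y⁻¹ (inv_mem hy)
    rw [h7, mul_assoc (g * e * g⁻¹), inv_mul_cancel, mul_one]
  have hhL : h ∈ Le L e := by
    have h5 : h = y⁻¹ * (g * c) := by rw [hgc]; group
    rw [h5]
    exact mul_mem (inv_mem (hPL hy)) (mul_mem hg hc.1)
  rw [mem_Le F.Ln hee] at hhL
  rcases hhL with h5 | ⟨l, hl, h5⟩
  · obtain ⟨z, hz⟩ := F.comm_mod heH heP hh h5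
    exact ⟨h, hh, h5, z, h4.trans hz, hz⟩
  · have hlH : l ∈ H := by
      have : l = h * e⁻¹ := by rw [h5]; group
      rw [this]; exact mul_mem hh (inv_mem heH)
    obtain ⟨z, hz⟩ := F.comm_mod heH heP hlH hl
    refine ⟨l, hlH, hl, z, ?_, hz⟩
    rw [h4, h5]
    have : l * e * e * (l * e)⁻¹ = l * e * l⁻¹ := by group
    rw [this, hz]

end Frame

end Cfsg.Agent.H155.TI
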