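import Cfsg.Agent.H155.TI.Main
import Cfsg.Agent.H761.TI34.VanG
import Cfsg.Agent.H41.TI.Transp
import Cfsg.Agent.H41.TI.NvN
import Cfsg.Agent.H423.TI.Out
import Cfsg.Agent.H315.TI.AutL34
import Cfsg.Agent.H612.TI34.Six

/-!
# The row `PSL₃(4)`: the central count, final form (helper155)
-/

set_option autoImplicit false
set_option linter.unusedSectionVars false

namespace Cfsg.Agent.H155.TI

open Cfsg Cfsg.Agent.Characters.Core
open Cfsg.Agent.H41.TI (nvN)
open Cfsg.Agent.H761.TI34 (vanG)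
open scoped Pointwise

universe u

variable {Γ : Type u} [Group Γ] [Finite Γ] {Z L P H : Subgroup Γ} {x d a b : Γ}

theorem side_top (F : Frame Z L P H x d a b) (hL : ∃ _ : (Z.subgroupOf L).Normal, LSit L (Z.subgroupOf L))
    (lam : Z →* ℂˣ) : Side Z L P H x lam ⊤ where
  PK := le_top
  HK := le_top
  six := fun hZ hx => H41.TI.sixG F hL lam hZ hx
  van := by
    intro M hLM _ hZ hx χ ho h0 e heH hex y hy
    have hLM' : L ≤ M := fun l hl => hLM ⟨hl, trivial⟩
    exact (vanG F hL hLM' lam χ ho).2 h0 e heH hex y hy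

theorem side_norm (F : Frame Z L P H x d a b) (lam : Z →* ℂˣ) :
    Side Z L P H x lam (Subgroup.normalizer (P : Set Γ)) where
  PK := Subgroup.le_normalizer
  HK := F.HN
  six := fun hZ hx => H612.TI34.goalSixN Γ Z L P H x d a b F lam hZ hx
  van := by
    intro M hLM hM hZ hx χ ho h0
    exact absurd h0 (nvN F ((le_inf F.PL Subgroup.le_normalizer).trans hLM) hM χ)

/-- **the central count**, from the sign lemma -/
theorem cl_of_sign (hsign : ∀ (Γ : Type u) [Group Γ] [Finite Γ] (Z L P H : Subgroup Γ) (x d a b : Γ)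
    (F : Frame Z L P H x d a b) (lam : Z →* ℂˣ), L.index = 4 → ∀ (K : Subgroup Γ) (S : Side Z L P H x lam K) (c r : Γ),
      El L H x c → El L H x r →
      El L H x (c * r) → (∀ y ∈ P, c * y = y * c) → (¬ ∀ y ∈ P, r * y = y * r) → (∃ l ∈ H, l ∈ L ∧ ∃ z : Z,
        l * c * l⁻¹ = z * c ∧ lam z ≠ 1) → ∀ zr : Z, r * c * r⁻¹ = zr * c →
        Sign lam (S.ZA F) (AB c) ⟨x, S.xA F⟩ r zr) : CL.{u} := by
  intro Γ _ _ Z _ P S h lam
  obtain ⟨H, x, d, a, b, F, O⟩ := H423.TI.goalFrame H315.TI.goalAut Γ Z P S h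
  have hL := H41.TI.lsit Z P S h
  obtain ⟨n, hn⟩ := side_count F O lam (hsign Γ Z _ _ H x d a b F lam)
  have h1 := hn ⊤ (side_top F hL lam)
  have h2 := hn _ (side_norm F lam)
  have hleft : Nat.card {χ : IrrCharacter Γ // Over Z.subtype lam (χ : Γ → ℂ) ∧ ¬ 9 ∣ charDegree (χ : Γ → ℂ)} = n := by
    rw [← h1]
    unfold nz
    symm
    refine Nat.card_congr (Equiv.subtypeEquiv (H41.TI.ce (Subgroup.topEquiv (G := Γ)).symm) fun ψ => ?_)
    have h3 := H41.TI.over_ce (Subgroup.topEquiv (G := Γ)).symm (MulEquiv.refl Z) Z.subtype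
      (Subgroup.inclusion ((side_top F hL lam).ZK F)) (fun _ => rfl) lam lam (fun _ => rfl) ψ
    rw [h3]
    refine and_congr_right fun h4 => ?_
    have h5 := (vanG F hL (le_top : S.comap (QuotientGroup.mk' Z) ≤ ⊤) lam ψ (h3.2 h4)).1
    have h6 : charDegree (H41.TI.ce (Subgroup.topEquiv (G := Γ)).symm ψ : Γ → ℂ) = charDegree (ψ : (⊤ : Subgroup Γ) → ℂ) := by
      unfold charDegree
      rw [H41.TI.ce_apply, map_one]
    rw [h6, ← h5]
  have hright : Nat.card {ψ : IrrCharacter (Subgroup.normalizer ((P : Subgroup Γ) : Set Γ)) //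
        Over (Subgroup.inclusion (le_norm h.cen (P : Subgroup Γ))) lam
          (ψ : Subgroup.normalizer ((P : Subgroup Γ) : Set Γ) → ℂ)} = n := by
    rw [← h2]
    unfold nz
    refine card_congr_iff fun ψ => ?_
    exact ⟨fun h3 => ⟨h3, nvN F Subgroup.le_normalizer le_rfl ψ⟩, fun h3 => h3.1⟩
  rw [hleft, hright]

end Cfsg.Agent.H155.TI
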