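import Cfsg.Agent.H155.TI.Defs
import Cfsg.Agent.H41.TI.Clif

/-!
# The row `PSL₃(4)`: the index 4 step (helper155)

`A → B → W`, both of index 2; `c ∈ B \ A`, `r ∈ W \ B` commute with `x`, `r c r⁻¹ = zr c`.
-/

set_option autoImplicit false
set_option linter.unusedSectionVars false

namespace Cfsg.Agent.H155.TI

open Cfsg Cfsg.Agent.Characters.Core Cfsg.Agent.Characters.Clifford
open Cfsg.Agent.H41.TI (count_pair res_cases exists_ext over_iff tr eqv coe_eqv inv_tr nrm card_gen conj_eq)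

universe u

section gen

variable {Z A W : Type u} [Group Z] [Group A] [Group W] [Finite W] {j : Z →* A} {i : A →* W} {lam : Z →* ℂˣ}
  {x : A} {c : W}

/-- the counting lemma, hom version -/
theorem card_genh (h : Pair j i) (hc : c ∉ i.range) (DW : IrrCharacter W → Prop) (DA : IrrCharacter A → Prop)
    (hD : ∀ (χ : IrrCharacter W) (η : IrrCharacter A) (_ : Fintype A),
      classInner (fun t => (χ : W → ℂ) (i t)) (η : A → ℂ) ≠ 0 → (DW χ ↔ DA η)) :
    2 * Nat.card {χ : IrrCharacter W // DW χ} =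
      4 * Nat.card {η : IrrCharacter A // DA η ∧ Inv i c (η : A → ℂ)} +
      Nat.card {η : IrrCharacter A // DA η ∧ ¬ Inv i c (η : A → ℂ)} := by
  classical
  have := nrm h
  have : Finite A := Finite.of_injective i h.ii
  have := Fintype.ofFinite A
  have := Fintype.ofFinite i.range
  have h0 := card_gen (W := W) (N := i.range) h.idx DW (fun ψ => DA (tr h ψ)) (by
    intro χ ψ hne
    refine hD χ (tr h ψ) inferInstance ?_
    have h2 := classInner_comp_mulEquiv (eqv h) (fun n : i.range => (χ : W → ℂ) n) (ψ : i.range → ℂ)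
    rw [← h2] at hne
    exact hne)
  rw [h0]
  congr 1
  · congr 1
    refine Nat.card_congr (Equiv.subtypeEquiv (tr h) fun ψ => ?_)
    rw [inv_tr h hc ψ]
  · refine Nat.card_congr (Equiv.subtypeEquiv (tr h) fun ψ => ?_)
    rw [inv_tr h hc ψ]

/-- equality of irreducible characters from a non-zero inner product -/
theorem eq_of_inner [Fintype A] (η η' : IrrCharacter A) (h : classInner (η : A → ℂ) (η' : A → ℂ) ≠ 0) : η = η' := by
  by_contra hne
  exact h (classInner_irr_ne η.2 η'.2 fun h2 => hne (Subtype.ext h2))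

/-- the two cases for a character of `W` and a constituent of the restriction -/
theorem cases_of_inner (h : Pair j i) (hc : c ∉ i.range) (χ : IrrCharacter W) (η : IrrCharacter A) [Fintype A]
    (hne : classInner (fun t => (χ : W → ℂ) (i t)) (η : A → ℂ) ≠ 0) :
    ((∀ t, (χ : W → ℂ) (i t) = (η : A → ℂ) t) ∧ Inv i c (η : A → ℂ)) ∨
    ((∀ w, w ∉ i.range → (χ : W → ℂ) w = 0) ∧ ¬ Inv i c (η : A → ℂ) ∧
      ∀ t t', i t' = c * i t * c⁻¹ → (χ : W → ℂ) (i t) = (η : A → ℂ) t + (η : A → ℂ) t') := by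
  classical
  have := nrm h
  rcases res_cases h hc χ with ⟨h1, h2⟩ | ⟨h1, η₁, η₂, hne', hs, hcj, hinv⟩
  · left
    have h3 := eq_of_inner ⟨_, h1⟩ η hne
    have h4 : (fun t => (χ : W → ℂ) (i t)) = (η : A → ℂ) := congrArg Subtype.val h3
    exact ⟨fun t => congrFun h4 t, by rw [← h4]; exact h2⟩
  · right
    have hnorm : ∀ t, ∃ t', i t' = c * i t * c⁻¹ := by
      intro t
      have h3 : c * i t * c⁻¹ ∈ i.range := (nrm h).conj_mem _ ⟨t, rfl⟩ c
      exact h3
    have hnorm' : ∀ t, ∃ t', i t = c * i t' * c⁻¹ := by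
      intro t
      have h3 : c⁻¹ * i t * c⁻¹⁻¹ ∈ i.range := (nrm h).conj_mem _ ⟨t, rfl⟩ c⁻¹
      obtain ⟨t', ht'⟩ := h3
      exact ⟨t', by rw [ht']; group⟩
    have e1 : (fun t => (χ : W → ℂ) (i t)) = (η₁ : A → ℂ) + (η₂ : A → ℂ) := funext hs
    rw [e1, classInner_add_left] at hne
    have hcc : ∀ t t' t'', i t' = c * i t * c⁻¹ → i t'' = c * i t' * c⁻¹ → (η₁ : A → ℂ) t'' = (η₁ : A → ℂ) t := by
      intro t t' t'' ht ht'
      have hcc2 : c * c ∈ i.range := by
        rw [Subgroup.mul_mem_iff_of_index_two h.idx]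
      obtain ⟨s, hs'⟩ := hcc2
      have h4 : t'' = s * t * s⁻¹ := by
        apply h.ii
        rw [ht', ht, map_mul, map_mul, map_inv, hs']
        group
      rw [h4]
      exact isIrr_isClassFunction η₁.2 t s
    by_cases h3 : classInner (η₁ : A → ℂ) (η : A → ℂ) = 0
    · rw [h3, zero_add] at hne
      have h4 := eq_of_inner η₂ η hne
      subst h4
      refine ⟨h1, fun hi => hinv ?_, fun t t' ht => ?_⟩
      · intro a a' ha
        obtain ⟨b, hb⟩ := hnorm' a
        -- η₁ a = η₂ b, η₁ a' = η₂ a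
        rw [hcj a a' ha, hcj b a hb]
        exact hi b a hb
      · rw [hs t]
        obtain ⟨t'', ht''⟩ := hnorm t'
        have h5 := hcj t' t'' ht''
        have h6 := hcc t t' t'' ht ht''
        rw [add_comm]
        congr 1
        rw [← h5, h6]
    · have h4 := eq_of_inner η₁ η h3
      subst h4
      refine ⟨h1, hinv, fun t t' ht => ?_⟩
      rw [hs t, hcj t t' ht]

end gen

section four

variable {Z A B W : Type u} [Group Z] [Group A] [Group B] [Group W] [Finite W] {j : Z →* A} {i : A →* B} {k : B →* W}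
  {lam : Z →* ℂˣ} {x : A} {c : B} {r : W} {zr : Z}

/-- the elements -/
structure Quad (j : Z →* A) (i : A →* B) (k : B →* W) (x : A) (c : B) (r : W) (zr : Z) : Prop where
  h1 : Pair j i
  h2 : Pair (i.comp j) k
  cB : c ∉ i.range
  rW : r ∉ k.range
  cx : c * i x = i x * c
  rx : r * k (i x) = k (i x) * r
  rc : r * k c * r⁻¹ = k (i (j zr)) * k c
  cc : ∃ z, c * c = i (j z)
  nA : ∀ a, ∃ a', k (i a') = r * k (i a) * r⁻¹

variable (q : Quad j i k x c r zr)
include q

theorem Quad.finB : Finite B := Finite.of_injective k q.h2.ii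

theorem Quad.finA : Finite A := by
  have := q.finB
  exact Finite.of_injective i q.h1.ii

/-- conjugation by `r` on `B` -/
theorem Quad.exists_conj : ∃ ρ : B ≃* B, ∀ b, k (ρ b) = r * k b * r⁻¹ := by
  have := nrm q.h2
  have h1 : ∀ b, r * k b * r⁻¹ ∈ k.range := fun b => (nrm q.h2).conj_mem _ ⟨b, rfl⟩ r
  have h2 : ∀ b, r⁻¹ * k b * r⁻¹⁻¹ ∈ k.range := fun b => (nrm q.h2).conj_mem _ ⟨b, rfl⟩ r⁻¹
  choose f hf using h1
  choose g hg using h2
  refine ⟨{ toFun := f, invFun := g, left_inv := fun b => ?_, right_inv := fun b => ?_, map_mul' := fun a b => ?_ }, hf⟩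
  · apply q.h2.ii
    rw [hg, hf]; group
  · apply q.h2.ii
    rw [hf, hg]; group
  · apply q.h2.ii
    rw [hf, map_mul, map_mul, hf, hf]; group

theorem Quad.val_rc (χ : B → ℂ) (hχ : Over (i.comp j) lam χ) (hi : Inv k r χ) :
    (lam zr : ℂ) * χ (i x * c) = χ (i x * c) := by
  have h1 : k (i (j zr) * (i x * c)) = r * k (i x * c) * r⁻¹ := by
    rw [map_mul, map_mul]
    have h3 : r * (k (i x) * k c) * r⁻¹ = (r * k (i x)) * (k c * r⁻¹) := by group
    rw [h3, q.rx]
    have h4 : k (i x) * r * (k c * r⁻¹) = k (i x) * (r * k c * r⁻¹) := by group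
    rw [h4, q.rc, ← mul_assoc, ← mul_assoc]
    congr 1
    exact q.h2.cen zr (k (i x))
  have h2 := hi _ _ h1
  have h5 := hχ zr (i x * c)
  rw [MonoidHom.comp_apply, h2] at h5
  exact h5.symm

/-- `r`-conjugate of a character of `B` that extends an `r`-invariant character and does not vanish at `x c` -/
theorem Quad.inv_of_ext (hz : lam zr = 1) (χ : IrrCharacter B) (hχ : Over (i.comp j) lam (χ : B → ℂ))
    (η : IrrCharacter A) (he : ∀ t, (χ : B → ℂ) (i t) = (η : A → ℂ) t) (hη : Inv (k.comp i) r (η : A → ℂ))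
    (hc : (χ : B → ℂ) (i x * c) ≠ 0) : Inv k r (χ : B → ℂ) := by
  classical
  have := q.finB
  obtain ⟨ρ, hρ⟩ := q.exists_conj
  have hηc : Inv i c (η : A → ℂ) := by
    intro a a' ha
    rw [← he, ← he, ha]
    exact isIrr_isClassFunction χ.2 _ _
  let χ' : IrrCharacter B := ⟨(χ : B → ℂ) ∘ ρ, isIrr_comp ρ.toMonoidHom ρ.surjective χ.2⟩
  have he' : ∀ t, (χ' : B → ℂ) (i t) = (η : A → ℂ) t := by
    intro t
    obtain ⟨t', ht'⟩ := q.nA t
    have h1 : ρ (i t) = i t' := by
      apply q.h2.ii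
      rw [hρ, ht']
    change (χ : B → ℂ) (ρ (i t)) = _
    rw [h1, he]
    exact hη t t' ht'
  obtain ⟨χ₁, χ₂, hne, h1, h2, h3, h4⟩ := exists_ext q.h1 q.cB η hηc
  have hval : (χ' : B → ℂ) (i x * c) = (χ : B → ℂ) (i x * c) := by
    change (χ : B → ℂ) (ρ (i x * c)) = _
    have h5 : ρ (i x * c) = i (j zr) * (i x * c) := by
      apply q.h2.ii
      rw [hρ, map_mul, map_mul, map_mul]
      have h3 : r * (k (i x) * k c) * r⁻¹ = (r * k (i x)) * (k c * r⁻¹) := by group
      rw [h3, q.rx]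
      have h4 : k (i x) * r * (k c * r⁻¹) = k (i x) * (r * k c * r⁻¹) := by group
      rw [h4, q.rc, ← mul_assoc, ← mul_assoc]
      congr 1
      exact (q.h2.cen zr (k (i x))).symm
    rw [h5]
    have h6 := hχ zr (i x * c)
    rw [MonoidHom.comp_apply, hz, Units.val_one, one_mul] at h6
    exact h6
  have hxc : i x * c ∉ i.range := by
    intro h5
    have hxr : i x ∈ i.range := ⟨x, rfl⟩
    exact q.cB ((Subgroup.mul_mem_cancel_left _ hxr).1 h5)
  have heq : χ' = χ := by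
    rcases h4 χ' he' with h5 | h5 <;> rcases h4 χ he with h6 | h6
    · rw [h5, h6]
    · exfalso
      have h7 := h3 _ hxc
      rw [← h5, ← h6] at h7
      rw [hval] at h7
      exact hc (by linear_combination h7 / 2)
    · exfalso
      have h7 := h3 _ hxc
      rw [← h5, ← h6] at h7
      rw [hval] at h7
      exact hc (by linear_combination h7 / 2)
    · rw [h5, h6]
  intro a a' ha
  have h5 : a' = ρ a := by
    apply q.h2.ii
    rw [ha, hρ]
  rw [h5]
  have h6 : (χ' : B → ℂ) a = (χ : B → ℂ) a := by rw [heq]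
  exact h6

/-- **neutral, `β ≠ 1`** -/
theorem Quad.neu_neg (hz : lam zr ≠ 1) (hnv : ∀ χ : IrrCharacter B, Over (i.comp j) lam (χ : B → ℂ) →
      (χ : B → ℂ) (i x) ≠ 0 → (χ : B → ℂ) (i x * c) ≠ 0) (hn : nz (i.comp j) lam (i x) = 12) :
    nz (k.comp (i.comp j)) lam (k (i x)) = 6 := by
  classical
  have := q.finB
  have := finite_irr (G := B)
  have h1 := count_pair q.h2 q.rW lam q.rx
  have h2 : Nat.card {χ : IrrCharacter B // Over (i.comp j) lam (χ : B → ℂ) ∧ (χ : B → ℂ) (i x) ≠ 0 ∧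
      Inv k r (χ : B → ℂ)} = 0 := by
    apply Nat.card_eq_zero.2
    left
    constructor
    rintro ⟨χ, hχ, hx, hi⟩
    have h3 := q.val_rc (lam := lam) _ hχ hi
    have h4 := hnv χ hχ hx
    apply hz
    apply Units.ext
    rw [Units.val_one]
    apply mul_right_cancel₀ h4
    rw [h3, one_mul]
  have h3 : Nat.card {χ : IrrCharacter B // Over (i.comp j) lam (χ : B → ℂ) ∧ (χ : B → ℂ) (i x) ≠ 0 ∧
      ¬ Inv k r (χ : B → ℂ)} = nz (i.comp j) lam (i x) := by
    refine Nat.card_congr ⟨fun χ => ⟨χ.1, χ.2.1, χ.2.2.1⟩, fun χ => ⟨χ.1, χ.2.1, χ.2.2, fun hi => ?_⟩,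
      fun χ => rfl, fun χ => rfl⟩
    have : IsEmpty {χ : IrrCharacter B // Over (i.comp j) lam (χ : B → ℂ) ∧ (χ : B → ℂ) (i x) ≠ 0 ∧
      Inv k r (χ : B → ℂ)} := by
      rcases Nat.card_eq_zero.1 h2 with h | h
      · exact h
      · exact absurd (inferInstance : Finite _) (not_finite_iff_infinite.2 h)
    exact this.elim ⟨χ.1, χ.2.1, χ.2.2, hi⟩
  rw [h2, h3, hn] at h1
  omega

omit q in
theorem split_card {X : Type u} [Finite X] (D I : X → Prop) :
    Nat.card {χ // D χ} = Nat.card {χ // D χ ∧ I χ} + Nat.card {χ // D χ ∧ ¬ I χ} := by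
  classical
  rw [← Nat.card_sum]
  refine Nat.card_congr ⟨fun η => if h : I η.1 then Sum.inl ⟨η.1, η.2, h⟩ else
    Sum.inr ⟨η.1, η.2, h⟩, fun t => t.elim (fun η => ⟨η.1, η.2.1⟩) (fun η => ⟨η.1, η.2.1⟩),
    fun η => ?_, fun t => ?_⟩
  · by_cases h : I η.1
    · simp only [h, ↓reduceDIte, Sum.elim_inl]
    · simp only [h, ↓reduceDIte, Sum.elim_inr]
  · rcases t with η | η
    · have h := η.2.2
      simp only [Sum.elim_inl, h, ↓reduceDIte]
    · have h := η.2.2
      simp only [Sum.elim_inr, h, ↓reduceDIte]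

omit q in
theorem card_congr_iff {X : Type u} {D E : X → Prop} (h : ∀ χ, D χ ↔ E χ) :
    Nat.card {χ // D χ} = Nat.card {χ // E χ} :=
  Nat.card_congr (Equiv.subtypeEquivRight h)

omit q in
theorem card_zero_iff {X : Type u} [Finite X] {D : X → Prop} (h : ∀ χ, ¬ D χ) : Nat.card {χ // D χ} = 0 := by
  apply Nat.card_eq_zero.2
  left
  exact ⟨fun χ => h χ.1 χ.2⟩

/-- the restriction of an invariant character -/
theorem Quad.inv_res (χ : IrrCharacter B) (η : IrrCharacter A) (he : ∀ t, (χ : B → ℂ) (i t) = (η : A → ℂ) t)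
    (hi : Inv k r (χ : B → ℂ)) : Inv (k.comp i) r (η : A → ℂ) := by
  intro a a' ha
  rw [← he, ← he]
  exact hi _ _ ha

/-- value at `x` of a character vanishing off `A` -/
theorem Quad.val_off (χ : IrrCharacter B) (η : IrrCharacter A)
    (h : ∀ t t', i t' = c * i t * c⁻¹ → (χ : B → ℂ) (i t) = (η : A → ℂ) t + (η : A → ℂ) t') :
    (χ : B → ℂ) (i x) = 2 * (η : A → ℂ) x := by
  rw [h x x (by rw [q.cx, mul_inv_cancel_right]), two_mul]

/-- **neutral, `β = 1`** -/
theorem Quad.neu_pos (hz : lam zr = 1) (hnv : ∀ χ : IrrCharacter B, Over (i.comp j) lam (χ : B → ℂ) →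
      (χ : B → ℂ) (i x) ≠ 0 → (χ : B → ℂ) (i x * c) ≠ 0) (hn : nz (i.comp j) lam (i x) = 12)
    (hall : ∀ η : IrrCharacter A, Over j lam (η : A → ℂ) → (η : A → ℂ) x ≠ 0 → Inv i c (η : A → ℂ))
    (hf : Nat.card {η : IrrCharacter A // Over j lam (η : A → ℂ) ∧ (η : A → ℂ) x ≠ 0 ∧ Inv (k.comp i) r (η : A → ℂ)} = 4) :
    nz (k.comp (i.comp j)) lam (k (i x)) = 18 := by
  classical
  have := q.finB
  have := q.finA
  have := finite_irr (G := B)
  have := finite_irr (G := A)
  have h1 := count_pair q.h2 q.rW lam q.rx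
  have h3 := card_genh q.h1 q.cB
    (fun χ => Over (i.comp j) lam (χ : B → ℂ) ∧ (χ : B → ℂ) (i x) ≠ 0 ∧ Inv k r (χ : B → ℂ))
    (fun η => Over j lam (η : A → ℂ) ∧ (η : A → ℂ) x ≠ 0 ∧ Inv (k.comp i) r (η : A → ℂ)) (by
      intro χ η _ hne
      rw [over_iff q.h1 χ η _ lam hne]
      refine and_congr_right fun ho => ?_
      rcases cases_of_inner q.h1 q.cB χ η hne with ⟨h4, h5⟩ | ⟨h4, h5, h6⟩
      · rw [h4]
        refine and_congr_right fun hx => ⟨fun hi => q.inv_res χ η h4 hi, fun hi => ?_⟩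
        have hχo := (over_iff q.h1 χ η _ lam hne).2 ho
        exact q.inv_of_ext hz χ hχo η h4 hi (hnv χ hχo (by rw [h4]; exact hx))
      · have h7 : (η : A → ℂ) x = 0 := by
          by_contra hx
          exact h5 (hall η ho hx)
        rw [q.val_off χ η h6, h7, mul_zero]
        simp)
  have h5 : Nat.card {η : IrrCharacter A // (Over j lam (η : A → ℂ) ∧ (η : A → ℂ) x ≠ 0 ∧
      Inv (k.comp i) r (η : A → ℂ)) ∧ Inv i c (η : A → ℂ)} = 4 := by
    rw [← hf]
    exact card_congr_iff fun η => ⟨fun h => h.1, fun h => ⟨h, hall η h.1 h.2.1⟩⟩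
  have h6 : Nat.card {η : IrrCharacter A // (Over j lam (η : A → ℂ) ∧ (η : A → ℂ) x ≠ 0 ∧
      Inv (k.comp i) r (η : A → ℂ)) ∧ ¬ Inv i c (η : A → ℂ)} = 0 :=
    card_zero_iff fun η h => h.2 (hall η h.1.1 h.1.2.1)
  rw [h5, h6] at h3
  have h7 : Nat.card {χ : IrrCharacter B // Over (i.comp j) lam (χ : B → ℂ) ∧ (χ : B → ℂ) (i x) ≠ 0} = 12 := hn
  have h8 := split_card (fun χ : IrrCharacter B => Over (i.comp j) lam (χ : B → ℂ) ∧ (χ : B → ℂ) (i x) ≠ 0)
    (fun χ => Inv k r (χ : B → ℂ))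
  simp only [and_assoc] at h8
  rw [h7] at h8
  omega

end four

end Cfsg.Agent.H155.TI
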