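import Cfsg.Agent.H155.TI.Fus
import Cfsg.Agent.H395.TI34.Final
import Cfsg.Agent.Blocks.Basic

/-!
# The row `PSL₃(4)`: the index 2 step for `L ∩ K < L⟨e⟩ ∩ K` (helper155)
-/

set_option autoImplicit false
set_option linter.unusedSectionVars false

namespace Cfsg.Agent.H155.TI

open Cfsg Cfsg.Agent.Characters.Core
open Cfsg.Agent.H41.TI (count_pair res_cases exists_ext over_iff)
open Cfsg.Agent.H395.TI34 (uv two3 two9)
open scoped Pointwise

universe u

section type

variable {Z A W : Type u} [Group Z] [Group A] [Group W] [Finite W] {j : Z →* A} {i : A →* W} {lam : Z →* ℂˣ}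
  {x : A} {c d : W} {zc : Z} {m : ℂ} {n : ℕ}

theorem finite_left (h : Pair j i) : Finite A := Finite.of_injective _ h.ii

theorem over_of_res (h : Pair j i) (χ : IrrCharacter W) (η : IrrCharacter A)
    (he : ∀ t, (χ : W → ℂ) (i t) = (η : A → ℂ) t) (hη : Over j lam (η : A → ℂ)) :
    Over (i.comp j) lam (χ : W → ℂ) := by
  have := finite_left h
  have ht := Fintype.ofFinite A
  refine (over_iff h χ η ht lam ?_).2 hη
  have h1 : (fun t => (χ : W → ℂ) (i t)) = (η : A → ℂ) := funext he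
  rw [h1, classInner_irr_self η.2]
  exact one_ne_zero

theorem over_res (χ : IrrCharacter W) (hχ : Over (i.comp j) lam (χ : W → ℂ)) :
    Over j lam (fun t => (χ : W → ℂ) (i t)) := by
  intro z t
  have h1 := hχ z (i t)
  simpa only [MonoidHom.comp_apply, map_mul] using h1

/-- the members with nonzero value: six -/
theorem Six.card_ne [Finite A] (s : Six j lam x) :
    Nat.card {η : IrrCharacter A // Over j lam (η : A → ℂ) ∧ (η : A → ℂ) x ≠ 0} = 6 := by
  classical
  have := finite_irr (G := A)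
  have h1 : Nat.card {η : IrrCharacter A // Over j lam (η : A → ℂ) ∧ (η : A → ℂ) x ≠ 0} =
      Nat.card {η : IrrCharacter A // Over j lam (η : A → ℂ) ∧ ((η : A → ℂ) x = 1 ∨ (η : A → ℂ) x = -1)} +
      Nat.card {η : IrrCharacter A // Over j lam (η : A → ℂ) ∧ ((η : A → ℂ) x = 2 ∨ (η : A → ℂ) x = -2)} := by
    rw [← Nat.card_sum]
    symm
    refine Nat.card_congr (Equiv.ofBijective (fun t => t.elim
      (fun η => (⟨η.1, η.2.1, by rcases η.2.2 with h | h <;> rw [h] <;> norm_num⟩ :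
        {η : IrrCharacter A // Over j lam (η : A → ℂ) ∧ (η : A → ℂ) x ≠ 0}))
      (fun η => ⟨η.1, η.2.1, by rcases η.2.2 with h | h <;> rw [h] <;> norm_num⟩)) ⟨?_, ?_⟩)
    · rintro (η | η) (η' | η') h
      · have h2 := congrArg Subtype.val h
        have h3 : η.1 = η'.1 := h2
        exact congrArg _ (Subtype.ext h3)
      · exfalso
        have h2 : η.1 = η'.1 := congrArg Subtype.val h
        have h3 := η.2.2
        have h4 := η'.2.2
        rw [← h2] at h4
        rcases h3 with h3 | h3 <;> rcases h4 with h4 | h4 <;> rw [h3] at h4 <;> norm_num at h4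
      · exfalso
        have h2 : η.1 = η'.1 := congrArg Subtype.val h
        have h3 := η.2.2
        have h4 := η'.2.2
        rw [← h2] at h4
        rcases h3 with h3 | h3 <;> rcases h4 with h4 | h4 <;> rw [h3] at h4 <;> norm_num at h4
      · have h2 := congrArg Subtype.val h
        have h3 : η.1 = η'.1 := h2
        exact congrArg _ (Subtype.ext h3)
    · rintro ⟨η, hη, hne⟩
      obtain ⟨w, hw, hw2⟩ := s.int η hη
      have h5 : w ≠ 0 := fun h => hne (by rw [hw, h, Int.cast_zero])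
      rcases (show w = 1 ∨ w = -1 ∨ w = 2 ∨ w = -2 by
        rw [abs_le] at hw2; omega) with h | h | h | h
      · exact ⟨Sum.inl ⟨η, hη, Or.inl (by rw [hw, h]; norm_num)⟩, rfl⟩
      · exact ⟨Sum.inl ⟨η, hη, Or.inr (by rw [hw, h]; norm_num)⟩, rfl⟩
      · exact ⟨Sum.inr ⟨η, hη, Or.inl (by rw [hw, h]; norm_num)⟩, rfl⟩
      · exact ⟨Sum.inr ⟨η, hη, Or.inr (by rw [hw, h]; norm_num)⟩, rfl⟩
  rw [h1, s.five, s.one]

/-- the count from the number of invariant members -/
theorem nz_of_card (h : Pair j i) (hc : c ∉ i.range) (hcx : c * i x = i x * c) (s : Six j lam x) {f : ℕ}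
    (hf : Nat.card {η : IrrCharacter A // Over j lam (η : A → ℂ) ∧ (η : A → ℂ) x ≠ 0 ∧ Inv i c (η : A → ℂ)} = f) :
    2 * nz (i.comp j) lam (i x) = 3 * f + 6 := by
  classical
  have := finite_left h
  have := finite_irr (G := A)
  have h1 := count_pair h hc lam hcx
  have h2 : Nat.card {η : IrrCharacter A // Over j lam (η : A → ℂ) ∧ (η : A → ℂ) x ≠ 0} =
      Nat.card {η : IrrCharacter A // Over j lam (η : A → ℂ) ∧ (η : A → ℂ) x ≠ 0 ∧ Inv i c (η : A → ℂ)} +
      Nat.card {η : IrrCharacter A // Over j lam (η : A → ℂ) ∧ (η : A → ℂ) x ≠ 0 ∧ ¬ Inv i c (η : A → ℂ)} := by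
    rw [← Nat.card_sum]
    refine Nat.card_congr ⟨fun η => if h : Inv i c (η.1 : A → ℂ) then Sum.inl ⟨η.1, η.2.1, η.2.2, h⟩ else
      Sum.inr ⟨η.1, η.2.1, η.2.2, h⟩, fun t => t.elim (fun η => ⟨η.1, η.2.1, η.2.2.1⟩) (fun η => ⟨η.1, η.2.1, η.2.2.1⟩),
      fun η => ?_, fun t => ?_⟩
    · by_cases h : Inv i c (η.1 : A → ℂ)
      · simp only [h, ↓reduceDIte, Sum.elim_inl]
      · simp only [h, ↓reduceDIte, Sum.elim_inr]
    · rcases t with η | η
      · have h := η.2.2.2
        simp only [Sum.elim_inl, h, ↓reduceDIte]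
      · have h := η.2.2.2
        simp only [Sum.elim_inr, h, ↓reduceDIte]
  rw [s.card_ne, hf] at h2
  rw [hf] at h1
  omega

theorem exists_m (u : ℂˣ) : ∃ m : ℂ, m ^ 2 = (u : ℂ) ∧ m ≠ 0 := by
  obtain ⟨m, hm⟩ := IsAlgClosed.exists_pow_nat_eq (u : ℂ) (n := 2) (by norm_num)
  refine ⟨m, hm, fun h => ?_⟩
  rw [h] at hm
  exact u.ne_zero (by rw [← hm]; norm_num)

theorem Elt.m_ne (e : Elt j i lam x c d zc m n) : m ≠ 0 := by
  intro h
  have h1 := e.mm
  rw [h] at h1
  exact (lam zc).ne_zero (by rw [← h1]; norm_num)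

/-- `c` fused to `z c` with `lam z ≠ 1`: two invariant members -/
theorem two9_non (h : Pair j i) (e : Elt j i lam x c d zc m 9) (s : Six j lam x) {g : W} {z : Z}
    (hg : g * c * g⁻¹ = i (j z) * c) (hz : lam z ≠ 1) :
    Nat.card {η : IrrCharacter A // Over j lam (η : A → ℂ) ∧ (η : A → ℂ) x ≠ 0 ∧ Inv i c (η : A → ℂ)} = 2 ∧
      ∀ χ : IrrCharacter W, Over (i.comp j) lam (χ : W → ℂ) →
        ((χ : W → ℂ) (i x * c) = 0 ∨ (χ : W → ℂ) (i x * c) = 3 * m ∨ (χ : W → ℂ) (i x * c) = -(3 * m)) ∧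
        (IsIrrCharacter A (fun t => (χ : W → ℂ) (i t)) → (χ : W → ℂ) (i x) ^ 2 = 1 → (χ : W → ℂ) (i x * c) ≠ 0) ∧
        ((χ : W → ℂ) (i x) ^ 2 = 4 → (χ : W → ℂ) (i x * c) = 0) := by
  have hfin := finite_left h
  rcases two9 h e s with ⟨h1, h2⟩ | h1
  · exfalso
    have hne : Nonempty {η : IrrCharacter A // Over j lam (η : A → ℂ) ∧ (η : A → ℂ) x ≠ 0 ∧ Inv i c (η : A → ℂ)} := by
      apply not_isEmpty_iff.1
      intro h3
      rw [Nat.card_of_isEmpty] at h1
      omega
    obtain ⟨η, hη, hηx, hηc⟩ := hne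
    obtain ⟨χ, -, -, hχ, -⟩ := exists_ext h e.cA η hηc
    have hχo := over_of_res h χ η hχ hη
    obtain ⟨k, hk, hk3⟩ := h2 χ hχo (by rw [hχ]; exact hηx)
    obtain ⟨u, v, p, q, -, hc, -, hxc, h3u, h3v⟩ := uv h e χ hχo
    have h4 : (χ : W → ℂ) (g * c * g⁻¹) = (χ : W → ℂ) c := isIrr_isClassFunction χ.2 c g
    have h5 := hχo z c
    rw [MonoidHom.comp_apply, ← hg, h4] at h5
    have h6 : (χ : W → ℂ) c = 0 := by
      have h7 : ((lam z : ℂ) - 1) * (χ : W → ℂ) c = 0 := by linear_combination -h5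
      rcases mul_eq_zero.1 h7 with h8 | h8
      · exact absurd (Units.ext (by rw [Units.val_one]; linear_combination h8)) hz
      · exact h8
    have hm := e.m_ne
    have h7 : (p : ℂ) = q := by
      rw [h6] at hc
      rcases mul_eq_zero.1 hc.symm with h8 | h8
      · exact absurd h8 hm
      · linear_combination h8
    have h8 : p = q := by exact_mod_cast h7
    have h9 : (k : ℂ) = ((u - v : ℤ) : ℂ) := by
      rw [hk] at hxc
      push_cast
      exact mul_left_cancel₀ hm hxc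
    have h10 : k = u - v := by exact_mod_cast h9
    apply hk3
    rw [h10]
    omega
  · exact h1

/-- neutral case: six invariant members -/
theorem two9_neu (h : Pair j i) (e : Elt j i lam x c d zc m 9) (s : Six j lam x)
    (hnv : ∀ χ : IrrCharacter W, Over (i.comp j) lam (χ : W → ℂ) → ¬ 3 ∣ charDegree (χ : W → ℂ) →
      ∃ k : ℤ, (χ : W → ℂ) c = m * k ∧ ¬ (3 : ℤ) ∣ k) :
    Nat.card {η : IrrCharacter A // Over j lam (η : A → ℂ) ∧ (η : A → ℂ) x ≠ 0 ∧ Inv i c (η : A → ℂ)} = 6 ∧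
      ∀ χ : IrrCharacter W, Over (i.comp j) lam (χ : W → ℂ) → (χ : W → ℂ) (i x) ≠ 0 → (χ : W → ℂ) (i x * c) ≠ 0 := by
  classical
  have hfin := finite_left h
  have hm := e.m_ne
  rcases two9 h e s with ⟨h1, h2⟩ | ⟨h1, h2⟩
  · refine ⟨h1, fun χ hχ hx h0 => ?_⟩
    obtain ⟨k, hk, hk3⟩ := h2 χ hχ hx
    rw [h0] at hk
    rcases mul_eq_zero.1 hk.symm with h3 | h3
    · exact hm h3
    · exact hk3 (by rw [Int.cast_eq_zero] at h3; rw [h3]; exact dvd_zero _)
  · exfalso
    have := finite_irr (G := A)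
    -- an invariant member with value ±1
    have hex : ∃ η : IrrCharacter A, Over j lam (η : A → ℂ) ∧ Inv i c (η : A → ℂ) ∧ ((η : A → ℂ) x) ^ 2 = 1 := by
      by_contra hno
      push Not at hno
      have h3 : Nat.card {η : IrrCharacter A // Over j lam (η : A → ℂ) ∧ (η : A → ℂ) x ≠ 0 ∧ Inv i c (η : A → ℂ)} ≤
          Nat.card {η : IrrCharacter A // Over j lam (η : A → ℂ) ∧ ((η : A → ℂ) x = 2 ∨ (η : A → ℂ) x = -2)} := by
        refine Nat.card_le_card_of_injective (fun η => ⟨η.1, η.2.1, ?_⟩) ?_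
        · obtain ⟨w, hw, hw2⟩ := s.int η.1 η.2.1
          have h4 := hno η.1 η.2.1 η.2.2.2
          have h5 : w ≠ 0 := fun h => η.2.2.1 (by rw [hw, h, Int.cast_zero])
          rw [hw] at h4 ⊢
          rcases (show w = 1 ∨ w = -1 ∨ w = 2 ∨ w = -2 by rw [abs_le] at hw2; omega) with h | h | h | h
          · exact absurd (by rw [h]; norm_num) h4
          · exact absurd (by rw [h]; norm_num) h4
          · left; rw [h]; norm_num
          · right; rw [h]; norm_num
        · intro η η' hh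
          have h5 := congrArg Subtype.val hh
          have h6 : η.1 = η'.1 := h5
          exact Subtype.ext h6
      rw [h1, s.one] at h3
      omega
    obtain ⟨η, hη, hηc, hη1⟩ := hex
    obtain ⟨χ, -, -, hχ, -⟩ := exists_ext h e.cA η hηc
    have hχo := over_of_res h χ η hχ hη
    obtain ⟨u, v, p, q, h1', hc, hx', hxc, h3u, h3v⟩ := uv h e χ hχo
    have h4 : (fun t => (χ : W → ℂ) (i t)) = (η : A → ℂ) := funext hχ
    have h5 : (χ : W → ℂ) (i x) ^ 2 = 1 := by rw [hχ]; exact hη1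
    have h6 := (h2 χ hχo).2.1 (by rw [h4]; exact η.2) h5
    have h7 := (h2 χ hχo).1
    have h8 : (u + v) ^ 2 = 1 := by
      rw [hx'] at h5
      exact_mod_cast h5
    have h9 : ((charDegree (χ : W → ℂ) : ℤ) : ℂ) = ((p + q : ℤ) : ℂ) := by
      rw [Int.cast_natCast, ← Blocks.Basic.irr_one_eq_charDegree χ.2, h1']
      push_cast
      rfl
    have h10 : (charDegree (χ : W → ℂ) : ℤ) = p + q := by exact_mod_cast h9
    have h11 : u + v = 1 ∨ u + v = -1 := by
      have : (u + v - 1) * (u + v + 1) = 0 := by linear_combination h8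
      rcases mul_eq_zero.1 this with h | h
      · left; omega
      · right; omega
    obtain ⟨k, hk, hk3⟩ := hnv χ hχo (by omega)
    have h12 : (k : ℂ) = ((p - q : ℤ) : ℂ) := by
      rw [hc] at hk
      push_cast
      exact (mul_left_cancel₀ hm hk).symm
    have h13 : k = p - q := by exact_mod_cast h12
    have h14 : u - v = 3 ∨ u - v = -3 := by
      rw [hxc] at h6 h7
      rcases h7 with h7 | h7 | h7
      · exact absurd h7 h6
      · left
        have : ((u - v : ℤ) : ℂ) = ((3 : ℤ) : ℂ) := by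
          push_cast
          apply mul_left_cancel₀ hm
          rw [h7]; ring
        exact_mod_cast this
      · right
        have : ((u - v : ℤ) : ℂ) = ((-3 : ℤ) : ℂ) := by
          push_cast
          apply mul_left_cancel₀ hm
          rw [h7]; ring
        exact_mod_cast this
    apply hk3
    rw [h13]
    omega

end type

end Cfsg.Agent.H155.TI
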