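import Cfsg.Agent.H155.TI.Four
import Cfsg.Agent.H155.TI.Res

/-!
# The row `PSL₃(4)`: the index 4 step, `c` not neutral (helper155)
-/

set_option autoImplicit false
set_option linter.unusedSectionVars false
set_option linter.unusedVariables false

namespace Cfsg.Agent.H155.TI

open Cfsg Cfsg.Agent.Characters.Core Cfsg.Agent.Characters.Clifford
open Cfsg.Agent.H41.TI (count_pair res_cases exists_ext over_iff nrm)

universe u

section conj

variable {Z A V : Type u} [Group Z] [Group A] [Group V] [Finite A] {j : Z →* A} {ι : A →* V} {lam : Z →* ℂˣ}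
  {x : A} {v w : V}

/-- conjugation by `v` -/
theorem exists_conjA (hι : Function.Injective ι) (hn : ∀ a, ∃ a', ι a' = v * ι a * v⁻¹) :
    ∃ ρ : A ≃* A, ∀ a, ι (ρ a) = v * ι a * v⁻¹ := by
  choose f hf using hn
  have hm : ∀ a b, f (a * b) = f a * f b := by
    intro a b
    apply hι
    rw [hf, map_mul, map_mul, hf, hf]; group
  have hinj : Function.Injective f := by
    intro a b hab
    apply hι
    have h1 : v * ι a * v⁻¹ = v * ι b * v⁻¹ := by rw [← hf, ← hf, hab]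
    exact mul_left_cancel (mul_right_cancel h1)
  refine ⟨MulEquiv.ofBijective (MonoidHom.mk' f hm) (Finite.injective_iff_bijective.1 hinj), hf⟩

/-- the conjugate of a character -/
theorem exists_conjChar (hι : Function.Injective ι) (hn : ∀ a, ∃ a', ι a' = v * ι a * v⁻¹) (η : IrrCharacter A) :
    ∃ η' : IrrCharacter A, ∀ a a', ι a' = v * ι a * v⁻¹ → (η' : A → ℂ) a = (η : A → ℂ) a' := by
  obtain ⟨ρ, hρ⟩ := exists_conjA hι hn
  refine ⟨⟨(η : A → ℂ) ∘ ρ, isIrr_comp ρ.toMonoidHom ρ.surjective η.2⟩, fun a a' ha => ?_⟩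
  have h1 : a' = ρ a := hι (by rw [ha, hρ])
  rw [h1]
  rfl

theorem conj_over (hι : Function.Injective ι) (hn : ∀ a, ∃ a', ι a' = v * ι a * v⁻¹)
    (hz : ∀ z, ι (j z) * v = v * ι (j z)) {η η' : IrrCharacter A}
    (h : ∀ a a', ι a' = v * ι a * v⁻¹ → (η' : A → ℂ) a = (η : A → ℂ) a') (ho : Over j lam (η : A → ℂ)) :
    Over j lam (η' : A → ℂ) := by
  intro z a
  obtain ⟨a', ha'⟩ := hn a
  rw [h a a' ha', h (j z * a) (j z * a') ?_, ho z a']
  rw [map_mul, map_mul, ha']
  have h3 : v * (ι (j z) * ι a) * v⁻¹ = (v * ι (j z)) * ι a * v⁻¹ := by group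
  rw [h3, ← hz]; group

theorem inv_of_eq {η η' : IrrCharacter A} (h : ∀ a a', ι a' = v * ι a * v⁻¹ → (η' : A → ℂ) a = (η : A → ℂ) a')
    (he : η' = η) : Inv ι v (η : A → ℂ) := by
  intro a a' ha
  rw [← h a a' ha, he]

/-- the special member is invariant -/
theorem special_inv (s : Six j lam x) (hι : Function.Injective ι) (hn : ∀ a, ∃ a', ι a' = v * ι a * v⁻¹)
    (hz : ∀ z, ι (j z) * v = v * ι (j z)) (hx : v * ι x = ι x * v) {η : IrrCharacter A} (ho : Over j lam (η : A → ℂ))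
    (h4 : (η : A → ℂ) x ^ 2 = 4) : Inv ι v (η : A → ℂ) := by
  obtain ⟨η', h⟩ := exists_conjChar hι hn η
  have ho' := conj_over hι hn hz h ho
  have hx' : (η' : A → ℂ) x = (η : A → ℂ) x := h x x (by rw [hx, mul_inv_cancel_right])
  have hsq : ∀ u : ℂ, u ^ 2 = 4 → u = 2 ∨ u = -2 := by
    intro u hu
    have h1 : (u - 2) * (u + 2) = 0 := by linear_combination hu
    rcases mul_eq_zero.1 h1 with h2 | h2
    · left; linear_combination h2
    · right; linear_combination h2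
  have h1 := s.one
  have h2 : Subsingleton {η : IrrCharacter A // Over j lam (η : A → ℂ) ∧ ((η : A → ℂ) x = 2 ∨ (η : A → ℂ) x = -2)} :=
    (Nat.card_eq_one_iff_unique.1 h1).1
  have h3 := h2.elim ⟨η', ho', hsq _ (by rw [hx']; exact h4)⟩ ⟨η, ho, hsq _ h4⟩
  have h5 : η' = η := congrArg Subtype.val h3
  exact inv_of_eq h h5

end conj

section four

variable {Z A B W : Type u} [Group Z] [Group A] [Group B] [Group W] [Finite W] {j : Z →* A} {i : A →* B} {k : B →* W}
  {lam : Z →* ℂˣ} {x : A} {c : B} {r : W} {zr : Z}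

variable (q : Quad j i k x c r zr)
include q

omit q in
theorem Six.dich (s : Six j lam x) {η : IrrCharacter A} (ho : Over j lam (η : A → ℂ)) (hx : (η : A → ℂ) x ≠ 0) :
    (η : A → ℂ) x ^ 2 = 1 ∨ (η : A → ℂ) x ^ 2 = 4 := by
  obtain ⟨w, hw, hw2⟩ := s.int η ho
  have h5 : w ≠ 0 := fun h => hx (by rw [hw, h, Int.cast_zero])
  rw [hw]
  rcases (show w = 1 ∨ w = -1 ∨ w = 2 ∨ w = -2 by rw [abs_le] at hw2; omega) with h | h | h | h
  · left; rw [h]; norm_num
  · left; rw [h]; norm_num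
  · right; rw [h]; norm_num
  · right; rw [h]; norm_num

omit q in
theorem Six.uniq (s : Six j lam x) {η η' : IrrCharacter A} (ho : Over j lam (η : A → ℂ)) (ho' : Over j lam (η' : A → ℂ))
    (h : (η : A → ℂ) x ^ 2 = 4) (h' : (η' : A → ℂ) x ^ 2 = 4) : η = η' := by
  have hsq : ∀ u : ℂ, u ^ 2 = 4 → u = 2 ∨ u = -2 := by
    intro u hu
    have h1 : (u - 2) * (u + 2) = 0 := by linear_combination hu
    rcases mul_eq_zero.1 h1 with h2 | h2
    · left; linear_combination h2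
    · right; linear_combination h2
  have h2 := (Nat.card_eq_one_iff_unique.1 s.one).1
  have h3 := h2.elim ⟨η, ho, hsq _ h⟩ ⟨η', ho', hsq _ h'⟩
  exact congrArg Subtype.val h3

omit q in
theorem Six.exists_special (s : Six j lam x) : ∃ η : IrrCharacter A, Over j lam (η : A → ℂ) ∧ (η : A → ℂ) x ^ 2 = 4 := by
  obtain ⟨η, ho, h⟩ := (Nat.card_eq_one_iff_unique.1 s.one).2
  refine ⟨η, ho, ?_⟩
  rcases h with h | h <;> rw [h] <;> norm_num

theorem Quad.nrmA : ∀ a, ∃ a', i a' = c * i a * c⁻¹ := by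
  intro a
  have := q.finB
  have h1 : c * i a * c⁻¹ ∈ i.range := (nrm q.h1).conj_mem _ ⟨a, rfl⟩ c
  exact h1

theorem Quad.kinj : Function.Injective (k.comp i) := q.h2.ii.comp q.h1.ii

/-- invariance under `c` seen in `W` -/
theorem Quad.inv_c {η : A → ℂ} : Inv (k.comp i) (k c) η ↔ Inv i c η := by
  constructor
  · intro h a a' ha
    refine h a a' ?_
    rw [MonoidHom.comp_apply, ha, map_mul, map_mul, map_inv]
    rfl
  · intro h a a' ha
    refine h a a' (q.h2.ii ?_)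
    rw [map_mul, map_mul, map_inv]
    exact ha

/-- `r k(c) y k(c)⁻¹ r⁻¹ = k(c) r y r⁻¹ k(c)⁻¹` -/
theorem Quad.swap (y : W) : r * (k c * y * (k c)⁻¹) * r⁻¹ = k c * (r * y * r⁻¹) * (k c)⁻¹ := by
  have h1 : r * k c = k (i (j zr)) * (k c * r) := by
    have := q.rc
    rw [mul_inv_eq_iff_eq_mul] at this
    rw [this, mul_assoc]
  have h2 : r * (k c * y * (k c)⁻¹) * r⁻¹ = (r * k c) * y * (r * k c)⁻¹ := by group
  rw [h2, h1]
  have h3 : k (i (j zr)) * (k c * r) * y * (k (i (j zr)) * (k c * r))⁻¹ =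
      k (i (j zr)) * ((k c * r) * y * (k c * r)⁻¹) * (k (i (j zr)))⁻¹ := by group
  have h4 := q.h2.cen zr ((k c * r) * y * (k c * r)⁻¹)
  rw [MonoidHom.comp_apply] at h4
  rw [h3, h4]
  group

theorem Quad.inv_mul {η : A → ℂ} (h1 : Inv (k.comp i) r η) (h2 : Inv (k.comp i) (k c) η) :
    Inv (k.comp i) (k c * r) η := by
  intro a a' ha
  obtain ⟨b, hb⟩ := q.nA a
  rw [← h1 a b hb]
  refine h2 b a' ?_
  rw [ha, MonoidHom.comp_apply]
  rw [MonoidHom.comp_apply, hb]
  group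

theorem Quad.inv_of_both {η : A → ℂ} (h1 : Inv (k.comp i) r η) (h2 : Inv (k.comp i) (k c * r) η) :
    Inv (k.comp i) (k c) η := by
  have := q.finA
  obtain ⟨ρ, hρ⟩ := exists_conjA (v := r) q.kinj q.nA
  intro a a' ha
  -- a = ρ b
  obtain ⟨b, rfl⟩ := ρ.surjective a
  have h3 : (k.comp i) (ρ b) = r * (k.comp i) b * r⁻¹ := hρ b
  rw [h1 b (ρ b) h3]
  refine h2 b a' ?_
  rw [ha, h3]
  group

/-- the invariants: every member not vanishing at `x` is invariant under `r` or `c r`, the `c`-invariant ones under `r` -/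
theorem Quad.invs (s : Six j lam x)
    (hfc : Nat.card {η : IrrCharacter A // Over j lam (η : A → ℂ) ∧ (η : A → ℂ) x ≠ 0 ∧ Inv i c (η : A → ℂ)} = 2)
    (hfr : Nat.card {η : IrrCharacter A // Over j lam (η : A → ℂ) ∧ (η : A → ℂ) x ≠ 0 ∧
      Inv (k.comp i) r (η : A → ℂ)} = 4)
    (hfcr : Nat.card {η : IrrCharacter A // Over j lam (η : A → ℂ) ∧ (η : A → ℂ) x ≠ 0 ∧
      Inv (k.comp i) (k c * r) (η : A → ℂ)} = 4) :
    (∀ η : IrrCharacter A, Over j lam (η : A → ℂ) → (η : A → ℂ) x ≠ 0 → Inv i c (η : A → ℂ) →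
      Inv (k.comp i) r (η : A → ℂ)) ∧
    (∀ η : IrrCharacter A, Over j lam (η : A → ℂ) → (η : A → ℂ) x ≠ 0 →
      Inv (k.comp i) r (η : A → ℂ) ∨ Inv (k.comp i) (k c * r) (η : A → ℂ)) ∧
    Nat.card {η : IrrCharacter A // (Over j lam (η : A → ℂ) ∧ (η : A → ℂ) x ≠ 0 ∧ (η : A → ℂ) x ^ 2 = 4) ∧
      Inv i c (η : A → ℂ)} = 1 ∧
    Nat.card {η : IrrCharacter A // (Over j lam (η : A → ℂ) ∧ (η : A → ℂ) x ≠ 0 ∧ (η : A → ℂ) x ^ 2 = 1) ∧
      Inv i c (η : A → ℂ)} = 1 := by
  classical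
  have := q.finA
  have := q.finB
  have := finite_irr (G := A)
  have := Fintype.ofFinite (IrrCharacter A)
  set X : Finset (IrrCharacter A) := Finset.univ.filter fun η => Over j lam (η : A → ℂ) ∧ (η : A → ℂ) x ≠ 0 with hX
  set C := X.filter fun η : IrrCharacter A => Inv i c (η : A → ℂ) with hC
  set R := X.filter fun η : IrrCharacter A => Inv (k.comp i) r (η : A → ℂ) with hR
  set R' := X.filter fun η : IrrCharacter A => Inv (k.comp i) (k c * r) (η : A → ℂ) with hR'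
  have key : ∀ (D : IrrCharacter A → Prop) [DecidablePred D], Nat.card {η // D η} = (Finset.univ.filter D).card := by
    intro D _
    rw [Nat.card_eq_fintype_card, Fintype.card_subtype]
  have cC : C.card = 2 := by
    rw [← hfc, key, hC, hX, Finset.filter_filter]
    congr 1; ext η; simp only [Finset.mem_filter, Finset.mem_univ, true_and, and_assoc]
  have cR : R.card = 4 := by
    rw [← hfr, key, hR, hX, Finset.filter_filter]
    congr 1; ext η; simp only [Finset.mem_filter, Finset.mem_univ, true_and, and_assoc]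
  have cR' : R'.card = 4 := by
    rw [← hfcr, key, hR', hX, Finset.filter_filter]
    congr 1; ext η; simp only [Finset.mem_filter, Finset.mem_univ, true_and, and_assoc]
  have cX : X.card = 6 := by
    rw [hX, ← key]
    exact s.card_ne
  have mX : ∀ η, η ∈ X ↔ Over j lam (η : A → ℂ) ∧ (η : A → ℂ) x ≠ 0 := fun η => by
    rw [hX, Finset.mem_filter]; simp
  have mR : ∀ η, η ∈ R ↔ η ∈ X ∧ Inv (k.comp i) r (η : A → ℂ) := fun η => by rw [hR, Finset.mem_filter]
  have mR' : ∀ η, η ∈ R' ↔ η ∈ X ∧ Inv (k.comp i) (k c * r) (η : A → ℂ) := fun η => by rw [hR', Finset.mem_filter]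
  -- the special member
  obtain ⟨σ, hσ, hσ4⟩ := s.exists_special
  have hz : ∀ z, (k.comp i) (j z) * r = r * (k.comp i) (j z) := fun z => q.h2.cen z r
  have hzc : ∀ z, i (j z) * c = c * i (j z) := fun z => q.h1.cen z c
  have hσx : (σ : A → ℂ) x ≠ 0 := fun h => by rw [h] at hσ4; norm_num at hσ4
  have hσc : Inv i c (σ : A → ℂ) := special_inv s q.h1.ii q.nrmA hzc q.cx hσ hσ4
  have hσr : Inv (k.comp i) r (σ : A → ℂ) := special_inv s q.kinj q.nA hz q.rx hσ hσ4
  have hσC : σ ∈ C := by rw [hC, Finset.mem_filter, mX]; exact ⟨⟨hσ, hσx⟩, hσc⟩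
  -- c-invariant → r-invariant
  have hCr : ∀ η ∈ C, Inv (k.comp i) r (η : A → ℂ) := by
    intro η hη
    by_cases hησ : η = σ
    · rw [hησ]; exact hσr
    · rw [hC, Finset.mem_filter, mX] at hη
      obtain ⟨⟨ho, hx⟩, hc⟩ := hη
      obtain ⟨η', h⟩ := exists_conjChar q.kinj q.nA η
      have ho' := conj_over q.kinj q.nA hz h ho
      have hx' : (η' : A → ℂ) x = (η : A → ℂ) x := h x x (by
        change k (i x) = r * k (i x) * r⁻¹
        rw [q.rx, mul_inv_cancel_right])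
      have hη'c : Inv i c (η' : A → ℂ) := by
        intro a a' ha
        obtain ⟨b, hb⟩ := q.nA a
        obtain ⟨b', hb'⟩ := q.nA a'
        rw [h a b hb, h a' b' hb']
        refine hc b b' (q.h2.ii ?_)
        rw [map_mul, map_mul, map_inv, hb, hb', ha, map_mul, map_mul, map_inv]
        exact q.swap _
      have hη'C : η' ∈ C := by rw [hC, Finset.mem_filter, mX]; exact ⟨⟨ho', by rw [hx']; exact hx⟩, hη'c⟩
      have hη'σ : η' ≠ σ := by
        intro h1
        apply hησ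
        rw [h1] at hx'
        exact s.uniq ho hσ (by rw [← hx']; exact hσ4) hσ4
      have hηC : η ∈ C := by rw [hC, Finset.mem_filter, mX]; exact ⟨⟨ho, hx⟩, hc⟩
      have h2 : η' = η := by
        by_contra hne
        have h3 : ({σ, η, η'} : Finset (IrrCharacter A)) ⊆ C := by
          intro t ht
          simp only [Finset.mem_insert, Finset.mem_singleton] at ht
          rcases ht with rfl | rfl | rfl <;> assumption
        have h4 := Finset.card_le_card h3
        rw [cC, Finset.card_insert_of_notMem, Finset.card_insert_of_notMem, Finset.card_singleton] at h4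
        · omega
        · rw [Finset.mem_singleton]; exact fun h5 => hne h5.symm
        · rw [Finset.mem_insert, Finset.mem_singleton]
          rintro (h5 | h5)
          · exact hησ h5.symm
          · exact hη'σ h5.symm
      exact inv_of_eq h h2
  have hCR : C ⊆ R := by
    intro η hη
    rw [hR, Finset.mem_filter]
    exact ⟨(Finset.mem_filter.1 hη).1, hCr η hη⟩
  have hint : R ∩ R' = C := by
    apply Finset.Subset.antisymm
    · intro η hη
      rw [Finset.mem_inter, mR, mR'] at hη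
      rw [hC, Finset.mem_filter]
      exact ⟨hη.1.1, q.inv_c.1 (q.inv_of_both hη.1.2 hη.2.2)⟩
    · intro η hη
      rw [Finset.mem_inter]
      refine ⟨hCR hη, ?_⟩
      rw [mR']
      exact ⟨(Finset.mem_filter.1 hη).1, q.inv_mul (hCr η hη) (q.inv_c.2 (Finset.mem_filter.1 hη).2)⟩
  have hun : R ∪ R' = X := by
    apply Finset.eq_of_subset_of_card_le
    · exact Finset.union_subset (Finset.filter_subset _ _) (Finset.filter_subset _ _)
    · have h1 := Finset.card_union_add_card_inter R R'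
      rw [hint, cC, cR, cR'] at h1
      omega
  refine ⟨fun η ho hx hc => hCr η (by rw [hC, Finset.mem_filter, mX]; exact ⟨⟨ho, hx⟩, hc⟩), fun η ho hx => ?_, ?_, ?_⟩
  · have h1 : η ∈ R ∪ R' := by rw [hun, mX]; exact ⟨ho, hx⟩
    rw [Finset.mem_union, mR, mR'] at h1
    exact h1.imp And.right And.right
  · rw [Nat.card_eq_one_iff_unique]
    refine ⟨⟨fun η η' => Subtype.ext (s.uniq η.2.1.1 η'.2.1.1 η.2.1.2.2 η'.2.1.2.2)⟩, ⟨⟨σ, ⟨hσ, hσx, hσ4⟩, hσc⟩⟩⟩
  · have h1 : (Finset.univ.filter fun η : IrrCharacter A => (Over j lam (η : A → ℂ) ∧ (η : A → ℂ) x ≠ 0 ∧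
        (η : A → ℂ) x ^ 2 = 1) ∧ Inv i c (η : A → ℂ)) = C.erase σ := by
      ext η
      rw [Finset.mem_filter, Finset.mem_erase, hC, Finset.mem_filter, mX]
      constructor
      · rintro ⟨-, ⟨ho, hx, h2⟩, hc⟩
        refine ⟨fun h3 => ?_, ⟨ho, hx⟩, hc⟩
        rw [h3, hσ4] at h2
        norm_num at h2
      · rintro ⟨hne, ⟨ho, hx⟩, hc⟩
        refine ⟨Finset.mem_univ _, ⟨ho, hx, ?_⟩, hc⟩
        rcases s.dich ho hx with h2 | h2
        · exact h2
        · exact absurd (s.uniq ho hσ h2 hσ4) hne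
    rw [key, h1, Finset.card_erase_of_mem hσC, cC]

/-- characters of `B` vanishing off `A` over an `r`- or `c r`-invariant character are `r`-invariant -/
theorem Quad.off_inv (χ : IrrCharacter B) (η : IrrCharacter A) (hv : ∀ w, w ∉ i.range → (χ : B → ℂ) w = 0)
    (h : ∀ t t', i t' = c * i t * c⁻¹ → (χ : B → ℂ) (i t) = (η : A → ℂ) t + (η : A → ℂ) t')
    (hη : Inv (k.comp i) r (η : A → ℂ) ∨ Inv (k.comp i) (k c * r) (η : A → ℂ)) : Inv k r (χ : B → ℂ) := by
  have := q.finA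
  have := q.finB
  intro b b' hb
  by_cases hbr : b ∈ i.range
  · obtain ⟨a, rfl⟩ := hbr
    obtain ⟨a₁, ha₁⟩ := q.nA a
    have hb' : b' = i a₁ := by
      apply q.h2.ii
      rw [hb, ha₁]
    rw [hb']
    obtain ⟨a₂, ha₂⟩ := q.nrmA a
    obtain ⟨a₃, ha₃⟩ := q.nrmA a₁
    rw [h a a₂ ha₂, h a₁ a₃ ha₃]
    -- k i a₃ = r k i a₂ r⁻¹
    have h3 : k (i a₃) = r * k (i a₂) * r⁻¹ := by
      rw [ha₃, ha₂]
      simp only [map_mul, map_inv]
      rw [ha₁]
      exact (q.swap _).symm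
    rcases hη with hη | hη
    · rw [hη a a₁ ha₁, hη a₂ a₃ h3]
    · have h4 : (η : A → ℂ) a₃ = (η : A → ℂ) a := by
        refine hη a a₃ ?_
        change k (i a₃) = k c * r * k (i a) * (k c * r)⁻¹
        rw [ha₃]
        simp only [map_mul, map_inv]
        rw [ha₁]; group
      obtain ⟨z, hz⟩ := q.cc
      have h5 : (η : A → ℂ) a₁ = (η : A → ℂ) a₂ := by
        refine hη a₂ a₁ ?_
        change k (i a₁) = k c * r * k (i a₂) * (k c * r)⁻¹
        have h6 : k c * r * k (i a₂) * (k c * r)⁻¹ = k c * (r * (k c * k (i a) * (k c)⁻¹) * r⁻¹) * (k c)⁻¹ := by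
          rw [ha₂]
          simp only [map_mul, map_inv]
          group
        rw [h6, q.swap, ← ha₁]
        have h7 : k c * (k c * k (i a₁) * (k c)⁻¹) * (k c)⁻¹ = (k c * k c) * k (i a₁) * (k c * k c)⁻¹ := by group
        have h8 : k c * k c = k (i (j z)) := by rw [← map_mul, hz]
        have h9 := q.h2.cen z (k (i a₁))
        rw [MonoidHom.comp_apply] at h9
        rw [h7, h8, h9]
        group
      rw [h4, h5, add_comm]
  · have hbr' : b' ∉ i.range := by
      rintro ⟨a', ha'⟩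
      apply hbr
      obtain ⟨ρ, hρ⟩ := exists_conjA (v := r) q.kinj q.nA
      obtain ⟨a, rfl⟩ := ρ.surjective a'
      refine ⟨a, q.h2.ii ?_⟩
      have h1 := hρ a
      change k (i (ρ a)) = r * k (i a) * r⁻¹ at h1
      rw [ha', hb] at h1
      exact (mul_left_cancel (mul_right_cancel h1)).symm
    rw [hv b hbr, hv b' hbr']

/-- **`c` not neutral**: 9 -/
theorem Quad.non (s : Six j lam x)
    (hfc : Nat.card {η : IrrCharacter A // Over j lam (η : A → ℂ) ∧ (η : A → ℂ) x ≠ 0 ∧ Inv i c (η : A → ℂ)} = 2)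
    (hfr : Nat.card {η : IrrCharacter A // Over j lam (η : A → ℂ) ∧ (η : A → ℂ) x ≠ 0 ∧
      Inv (k.comp i) r (η : A → ℂ)} = 4)
    (hfcr : Nat.card {η : IrrCharacter A // Over j lam (η : A → ℂ) ∧ (η : A → ℂ) x ≠ 0 ∧
      Inv (k.comp i) (k c * r) (η : A → ℂ)} = 4)
    (hψ : ∀ χ : IrrCharacter B, Over (i.comp j) lam (χ : B → ℂ) → IsIrrCharacter A (fun t => (χ : B → ℂ) (i t)) →
      (χ : B → ℂ) (i x) ^ 2 = 1 → (χ : B → ℂ) (i x * c) ≠ 0)
    (hκ : ∀ χ : IrrCharacter B, Over (i.comp j) lam (χ : B → ℂ) → IsIrrCharacter A (fun t => (χ : B → ℂ) (i t)) →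
      (χ : B → ℂ) (i x) ^ 2 = 4 → (Inv k r (χ : B → ℂ) ↔ lam zr ≠ 1)) :
    nz (k.comp (i.comp j)) lam (k (i x)) = 9 := by
  classical
  have := q.finB
  have := q.finA
  have := finite_irr (G := B)
  have := finite_irr (G := A)
  obtain ⟨i1, i2, i3, i4⟩ := q.invs s hfc hfr hfcr
  have h1 := count_pair q.h2 q.rW lam q.rx
  have hnB := nz_of_card q.h1 q.cB q.cx s hfc
  have h3 := card_genh q.h1 q.cB
    (fun χ => Over (i.comp j) lam (χ : B → ℂ) ∧ (χ : B → ℂ) (i x) ≠ 0 ∧ Inv k r (χ : B → ℂ))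
    (fun η => Over j lam (η : A → ℂ) ∧ (η : A → ℂ) x ≠ 0 ∧ (Inv i c (η : A → ℂ) →
      ((η : A → ℂ) x ^ 2 = 4 ↔ lam zr ≠ 1))) (by
      intro χ η _ hne
      rw [over_iff q.h1 χ η _ lam hne]
      refine and_congr_right fun ho => ?_
      have hχo := (over_iff q.h1 χ η _ lam hne).2 ho
      rcases cases_of_inner q.h1 q.cB χ η hne with ⟨h4, h5⟩ | ⟨h4, h5, h6⟩
      · have hirr : IsIrrCharacter A (fun t => (χ : B → ℂ) (i t)) := by
          have : (fun t => (χ : B → ℂ) (i t)) = (η : A → ℂ) := funext h4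
          rw [this]; exact η.2
        rw [h4]
        refine and_congr_right fun hx => ?_
        have h7 : (Inv i c (η : A → ℂ) → ((η : A → ℂ) x ^ 2 = 4 ↔ lam zr ≠ 1)) ↔
            ((η : A → ℂ) x ^ 2 = 4 ↔ lam zr ≠ 1) := ⟨fun h => h h5, fun h _ => h⟩
        rw [h7]
        rcases s.dich ho hx with h8 | h8
        · have h9 : ¬ ((η : A → ℂ) x ^ 2 = 4) := by rw [h8]; norm_num
          have h10 : (χ : B → ℂ) (i x * c) ≠ 0 := hψ χ hχo hirr (by rw [h4]; exact h8)
          constructor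
          · intro hi
            have h11 := q.val_rc (lam := lam) _ hχo hi
            have h12 : lam zr = 1 := by
              apply Units.ext
              rw [Units.val_one]
              apply mul_right_cancel₀ h10
              rw [h11, one_mul]
            exact ⟨fun h => absurd h h9, fun h => absurd h12 h⟩
          · intro hi
            have h12 : lam zr = 1 := by
              by_contra h
              exact h9 (hi.2 h)
            exact q.inv_of_ext h12 χ hχo η h4 (i1 η ho hx h5) h10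
        · rw [hκ χ hχo hirr (by rw [h4]; exact h8)]
          exact ⟨fun h => ⟨fun _ => h, fun _ => h8⟩, fun h => h.1 h8⟩
      · rw [q.val_off χ η h6]
        have h7 : (2 * (η : A → ℂ) x ≠ 0 ↔ (η : A → ℂ) x ≠ 0) := by simp
        rw [h7]
        refine and_congr_right fun hx => ?_
        exact ⟨fun _ h => absurd h h5, fun _ => q.off_inv χ η h4 h6 (i2 η ho hx)⟩)
  have h5 : Nat.card {η : IrrCharacter A // (Over j lam (η : A → ℂ) ∧ (η : A → ℂ) x ≠ 0 ∧ (Inv i c (η : A → ℂ) →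
      ((η : A → ℂ) x ^ 2 = 4 ↔ lam zr ≠ 1))) ∧ Inv i c (η : A → ℂ)} = 1 := by
    by_cases hz : lam zr = 1
    · rw [← i4]
      refine card_congr_iff fun η => ⟨fun h => ⟨⟨h.1.1, h.1.2.1, ?_⟩, h.2⟩, fun h => ⟨⟨h.1.1, h.1.2.1, fun _ => ?_⟩, h.2⟩⟩
      · rcases s.dich h.1.1 h.1.2.1 with h8 | h8
        · exact h8
        · exact absurd hz ((h.1.2.2 h.2).1 h8)
      · constructor
        · intro h8
          rw [h.1.2.2] at h8
          norm_num at h8
        · intro h8; exact absurd hz h8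
    · rw [← i3]
      refine card_congr_iff fun η => ⟨fun h => ⟨⟨h.1.1, h.1.2.1, (h.1.2.2 h.2).2 hz⟩, h.2⟩,
        fun h => ⟨⟨h.1.1, h.1.2.1, fun _ => ⟨fun _ => hz, fun _ => h.1.2.2⟩⟩, h.2⟩⟩
  have h6 : Nat.card {η : IrrCharacter A // (Over j lam (η : A → ℂ) ∧ (η : A → ℂ) x ≠ 0 ∧ (Inv i c (η : A → ℂ) →
      ((η : A → ℂ) x ^ 2 = 4 ↔ lam zr ≠ 1))) ∧ ¬ Inv i c (η : A → ℂ)} = 4 := by
    have h7 := split_card (fun η : IrrCharacter A => Over j lam (η : A → ℂ) ∧ (η : A → ℂ) x ≠ 0)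
      (fun η => Inv i c (η : A → ℂ))
    simp only [and_assoc] at h7
    rw [s.card_ne, hfc] at h7
    have h8 : Nat.card {η : IrrCharacter A // (Over j lam (η : A → ℂ) ∧ (η : A → ℂ) x ≠ 0 ∧ (Inv i c (η : A → ℂ) →
      ((η : A → ℂ) x ^ 2 = 4 ↔ lam zr ≠ 1))) ∧ ¬ Inv i c (η : A → ℂ)} =
        Nat.card {η : IrrCharacter A // Over j lam (η : A → ℂ) ∧ (η : A → ℂ) x ≠ 0 ∧ ¬ Inv i c (η : A → ℂ)} :=
      card_congr_iff fun η => ⟨fun h => ⟨h.1.1, h.1.2.1, h.2⟩, fun h => ⟨⟨h.1, h.2.1, fun h9 => absurd h9 h.2.2⟩, h.2.2⟩⟩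
    rw [h8]
    omega
  rw [h5, h6] at h3
  have h8 := split_card (fun χ : IrrCharacter B => Over (i.comp j) lam (χ : B → ℂ) ∧ (χ : B → ℂ) (i x) ≠ 0)
    (fun χ => Inv k r (χ : B → ℂ))
  simp only [and_assoc] at h8
  have h9 : Nat.card {χ : IrrCharacter B // Over (i.comp j) lam (χ : B → ℂ) ∧ (χ : B → ℂ) (i x) ≠ 0} =
    nz (i.comp j) lam (i x) := rfl
  rw [h9] at h8
  omega

end four

end Cfsg.Agent.H155.TI
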