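import Cfsg.Agent.H155.TI.Side
import Cfsg.Agent.H612.TI34.Quad

/-!
# The row `PSL₃(4)`: the central count (helper155)
-/

set_option autoImplicit false
set_option linter.unusedSectionVars false

namespace Cfsg.Agent.H155.TI

open Cfsg Cfsg.Agent.Characters.Core
open Cfsg.Agent.H612.TI34 (quad Le_top sq_of_two)
open scoped Pointwise

universe u

variable {Γ : Type u} [Group Γ] [Finite Γ] {Z L P H : Subgroup Γ} {x d a b : Γ} {lam : Z →* ℂˣ}

/-- the sign statement -/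
def Sign {Z : Subgroup Γ} (lam : Z →* ℂˣ) {A B : Subgroup Γ} (hZA : Z ≤ A) (hAB : A ≤ B) (x : A) (r : Γ) (zr : Z) : Prop :=
  ∀ χ : IrrCharacter B, Over (Subgroup.inclusion (hZA.trans hAB)) lam (χ : B → ℂ) →
    IsIrrCharacter A (fun t => (χ : B → ℂ) (Subgroup.inclusion hAB t)) →
    (χ : B → ℂ) (Subgroup.inclusion hAB x) ^ 2 = 4 → (InvG r (χ : B → ℂ) ↔ lam zr ≠ 1)

theorem nz_of_eq {M M' : Subgroup Γ} (h : M = M') (hZ : Z ≤ M) (hZ' : Z ≤ M') (hx : x ∈ M) (hx' : x ∈ M') :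
    nz (Subgroup.inclusion hZ) lam ⟨x, hx⟩ = nz (Subgroup.inclusion hZ') lam ⟨x, hx'⟩ := by
  subst h
  rfl

/-- the index 4 case, `c` neutral -/
theorem four_neu {K : Subgroup Γ} (F : Frame Z L P H x d a b) (S : Side Z L P H x lam K) (hidx : L.index = 4) {c r : Γ}
    (Ec : El L H x c) (Er : El L H x r) (hcr : c * r ∉ L) (hcP : ∀ y ∈ P, c * y = y * c) (hrP : ¬ ∀ y ∈ P, r * y = y * r)
    (hneu : ∀ l ∈ H, l ∈ L → ∀ z : Z, l * c * l⁻¹ = z * c → lam z = 1) {zr : Z} (hzr : r * c * r⁻¹ = zr * c) :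
    nz (Subgroup.inclusion (S.ZK F)) lam (⟨x, S.PK F.xP⟩ : K) = if lam zr = 1 then 18 else 6 := by
  classical
  obtain ⟨zr', hzr', q⟩ := quad F S.PK S.HK hidx Ec.eH Er.eH Ec.eL Er.eL hcr Ec.ee Er.ee hcP Er.ex (S.ZA F) (AB c)
    inf_le_right (S.xA F) (S.eB Ec) (S.HK Er.eH)
  have hz : zr' = zr := by
    apply Subtype.ext
    rw [hzr] at hzr'
    exact (mul_right_cancel hzr').symm
  subst hz
  obtain ⟨h1, h2⟩ := S.neu F Ec hcP hneu
  have h3 := S.nz_two F Ec h1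
  have hnv : ∀ χ : IrrCharacter (Le L c ⊓ K : Subgroup Γ),
      Over ((Subgroup.inclusion (AB (K := K) c)).comp (Subgroup.inclusion (S.ZA F))) lam
        (χ : (Le L c ⊓ K : Subgroup Γ) → ℂ) →
      (χ : (Le L c ⊓ K : Subgroup Γ) → ℂ) (Subgroup.inclusion (AB (K := K) c) ⟨x, S.xA F⟩) ≠ 0 →
      (χ : (Le L c ⊓ K : Subgroup Γ) → ℂ) (Subgroup.inclusion (AB (K := K) c) ⟨x, S.xA F⟩ * ⟨c, S.eB Ec⟩) ≠ 0 :=
    fun χ hχ h0 => h2 χ hχ h0 _ rfl
  have hn : nz ((Subgroup.inclusion (AB (K := K) c)).comp (Subgroup.inclusion (S.ZA F))) lam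
      (Subgroup.inclusion (AB (K := K) c) ⟨x, S.xA F⟩) = 12 := by
    have h4 : nz ((Subgroup.inclusion (AB (K := K) c)).comp (Subgroup.inclusion (S.ZA F))) lam
      (Subgroup.inclusion (AB (K := K) c) ⟨x, S.xA F⟩) = nz (Subgroup.inclusion ((S.ZA F).trans (AB c))) lam
      (⟨x, AB c (S.xA F)⟩ : (Le L c ⊓ K : Subgroup Γ)) := rfl
    rw [h4]; omega
  have hgoal : nz (Subgroup.inclusion (S.ZK F)) lam (⟨x, S.PK F.xP⟩ : K) =
      nz ((Subgroup.inclusion (inf_le_right (a := Le L c) (b := K))).comp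
        ((Subgroup.inclusion (AB (K := K) c)).comp (Subgroup.inclusion (S.ZA F)))) lam
        (Subgroup.inclusion (inf_le_right (a := Le L c) (b := K)) (Subgroup.inclusion (AB (K := K) c) ⟨x, S.xA F⟩)) := rfl
  rw [hgoal]
  split_ifs with hl
  · refine q.neu_pos hl hnv hn ?_ ?_
    · -- all nonvanishing members are `c`-invariant
      have hfin := q.finA
      have := finite_irr (G := (L ⊓ K : Subgroup Γ))
      have h5 := (S.six (S.ZA F) (S.xA F)).card_ne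
      have h6 := split_card (fun η : IrrCharacter (L ⊓ K : Subgroup Γ) => Over (Subgroup.inclusion (S.ZA F)) lam
        (η : (L ⊓ K : Subgroup Γ) → ℂ) ∧ (η : (L ⊓ K : Subgroup Γ) → ℂ) ⟨x, S.xA F⟩ ≠ 0)
        (fun η => InvG c (η : (L ⊓ K : Subgroup Γ) → ℂ))
      have h7 : Nat.card {η : IrrCharacter (L ⊓ K : Subgroup Γ) // (Over (Subgroup.inclusion (S.ZA F)) lam
          (η : (L ⊓ K : Subgroup Γ) → ℂ) ∧ (η : (L ⊓ K : Subgroup Γ) → ℂ) ⟨x, S.xA F⟩ ≠ 0) ∧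
          InvG c (η : (L ⊓ K : Subgroup Γ) → ℂ)} = 6 := by
        rw [← h1]
        exact card_congr_iff fun η => and_assoc
      rw [h5, h7] at h6
      have h8 : Nat.card {η : IrrCharacter (L ⊓ K : Subgroup Γ) // (Over (Subgroup.inclusion (S.ZA F)) lam
          (η : (L ⊓ K : Subgroup Γ) → ℂ) ∧ (η : (L ⊓ K : Subgroup Γ) → ℂ) ⟨x, S.xA F⟩ ≠ 0) ∧
          ¬ InvG c (η : (L ⊓ K : Subgroup Γ) → ℂ)} = 0 := by omega
      intro η ho hx
      rw [inv_iff]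
      by_contra hni
      have h9 : IsEmpty {η : IrrCharacter (L ⊓ K : Subgroup Γ) // (Over (Subgroup.inclusion (S.ZA F)) lam
          (η : (L ⊓ K : Subgroup Γ) → ℂ) ∧ (η : (L ⊓ K : Subgroup Γ) → ℂ) ⟨x, S.xA F⟩ ≠ 0) ∧
          ¬ InvG c (η : (L ⊓ K : Subgroup Γ) → ℂ)} := (Nat.card_eq_zero.1 h8).resolve_right (fun h => h.not_finite inferInstance)
      exact h9.false ⟨η, ⟨ho, hx⟩, hni⟩
    · rw [fe_eq']
      exact (S.refl F Er hrP).1
  · exact q.neu_neg hl hnv hn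

/-- the index 4 case, `c` not neutral -/
theorem four_non {K : Subgroup Γ} (F : Frame Z L P H x d a b) (S : Side Z L P H x lam K) (hidx : L.index = 4) {c r : Γ}
    (Ec : El L H x c) (Er : El L H x r) (Ecr : El L H x (c * r)) (hcP : ∀ y ∈ P, c * y = y * c)
    (hrP : ¬ ∀ y ∈ P, r * y = y * r) {l : Γ} (hlH : l ∈ H) (hlL : l ∈ L) {z : Z} (hl : l * c * l⁻¹ = z * c) (hz : lam z ≠ 1)
    {zr : Z} (hzr : r * c * r⁻¹ = zr * c) (hs : Sign lam (S.ZA F) (AB c) ⟨x, S.xA F⟩ r zr) :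
    nz (Subgroup.inclusion (S.ZK F)) lam (⟨x, S.PK F.xP⟩ : K) = 9 := by
  classical
  obtain ⟨zr', hzr', q⟩ := quad F S.PK S.HK hidx Ec.eH Er.eH Ec.eL Er.eL Ecr.eL Ec.ee Er.ee hcP Er.ex (S.ZA F) (AB c)
    inf_le_right (S.xA F) (S.eB Ec) (S.HK Er.eH)
  have hz' : zr' = zr := by
    apply Subtype.ext
    rw [hzr] at hzr'
    exact (mul_right_cancel hzr').symm
  subst hz'
  obtain ⟨h1, h2⟩ := S.non F Ec hcP hlH hlL hl hz
  have hcrP : ¬ ∀ y ∈ P, c * r * y = y * (c * r) := by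
    intro h
    apply hrP
    intro y hy
    have h3 := h y hy
    have h4 : c * (r * y) = c * (y * r) := by
      rw [← mul_assoc, h3, ← mul_assoc, ← hcP y hy, mul_assoc]
    exact mul_left_cancel h4
  have hgoal : nz (Subgroup.inclusion (S.ZK F)) lam (⟨x, S.PK F.xP⟩ : K) =
      nz ((Subgroup.inclusion (inf_le_right (a := Le L c) (b := K))).comp
        ((Subgroup.inclusion (AB (K := K) c)).comp (Subgroup.inclusion (S.ZA F)))) lam
        (Subgroup.inclusion (inf_le_right (a := Le L c) (b := K)) (Subgroup.inclusion (AB (K := K) c) ⟨x, S.xA F⟩)) := rfl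
  rw [hgoal]
  refine q.non (S.six _ _) ?_ ?_ ?_ ?_ ?_
  · rw [fe_eq]
    exact h1
  · rw [fe_eq']
    exact (S.refl F Er hrP).1
  · have h3 : Subgroup.inclusion (inf_le_right (a := Le L c) (b := K)) ⟨c, S.eB Ec⟩ * ⟨r, S.HK Er.eH⟩ =
        (⟨c * r, S.HK Ecr.eH⟩ : K) := rfl
    rw [h3, fe_eq']
    exact (S.refl F Ecr hcrP).1
  · intro χ hχ hi h4
    exact (h2 χ hχ _ rfl).1 hi h4
  · intro χ hχ hi h4
    rw [← hs χ hχ hi h4]
    exact inv_iff _ _ _

/-- **the count**: the same number on all sides -/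
theorem side_count (F : Frame Z L P H x d a b) (O : Outer L P H x) (lam : Z →* ℂˣ)
    (hsign : L.index = 4 → ∀ (K : Subgroup Γ) (S : Side Z L P H x lam K) (c r : Γ), El L H x c → El L H x r →
      El L H x (c * r) → (∀ y ∈ P, c * y = y * c) → (¬ ∀ y ∈ P, r * y = y * r) → (∃ l ∈ H, l ∈ L ∧ ∃ z : Z,
        l * c * l⁻¹ = z * c ∧ lam z ≠ 1) → ∀ zr : Z, r * c * r⁻¹ = zr * c →
        Sign lam (S.ZA F) (AB c) ⟨x, S.xA F⟩ r zr) :
    ∃ n, ∀ (K : Subgroup Γ) (S : Side Z L P H x lam K), nz (Subgroup.inclusion (S.ZK F)) lam (⟨x, S.PK F.xP⟩ : K) = n := by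
  classical
  rcases O with h1 | ⟨h2, e, heH, heL, hex⟩ | ⟨h4, c, hcH, r, hrH, hcL, hrL, hcrL, hcc, hrr, hcP, hrx, hrP⟩
  · refine ⟨6, fun K S => ?_⟩
    have hL : L = ⊤ := Subgroup.index_eq_one.1 h1
    have h3 : L ⊓ K = K := by rw [hL, top_inf_eq]
    rw [← nz_of_eq h3 (S.ZA F) (S.ZK F) (S.xA F) (S.PK F.xP)]
    exact (S.six _ _).card_ne
  · have E : El L H x e := ⟨heH, heL, hex, sq_of_two h2⟩
    have hLe : Le L e = ⊤ := Le_top h2 heL
    have key : ∀ (K : Subgroup Γ) (S : Side Z L P H x lam K), nz (Subgroup.inclusion (S.ZK F)) lam (⟨x, S.PK F.xP⟩ : K) =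
        nz (Subgroup.inclusion ((S.ZA F).trans (AB e))) lam (⟨x, AB e (S.xA F)⟩ : (Le L e ⊓ K : Subgroup Γ)) := by
      intro K S
      exact nz_of_eq (by rw [hLe, top_inf_eq]) _ _ _ _
    by_cases hP : ∀ y ∈ P, e * y = y * e
    · by_cases hneu : ∀ l ∈ H, l ∈ L → ∀ z : Z, l * e * l⁻¹ = z * e → lam z = 1
      · refine ⟨12, fun K S => ?_⟩
        have h3 := S.nz_two F E (S.neu F E hP hneu).1
        rw [key K S]; omega
      · push Not at hneu
        obtain ⟨l, hlH, hlL, z, hl, hz⟩ := hneu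
        refine ⟨6, fun K S => ?_⟩
        have h3 := S.nz_two F E (S.non F E hP hlH hlL hl hz).1
        rw [key K S]; omega
    · refine ⟨9, fun K S => ?_⟩
      have h3 := S.nz_two F E (S.refl F E hP).1
      rw [key K S]; omega
  · have Ec : El L H x c := ⟨hcH, hcL, hcP x F.xP, hcc⟩
    have Er : El L H x r := ⟨hrH, hrL, hrx, hrr⟩
    have hPK : P ≤ (⊤ : Subgroup Γ) := le_top
    obtain ⟨zr, hzr, q⟩ := quad F (K := ⊤) le_top le_top h4 hcH hrH hcL hrL hcrL hcc hrr hcP hrx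
      (le_inf F.ZL le_top) (AB c) le_top ⟨F.PL F.xP, trivial⟩ ⟨Subgroup.mem_sup_right (Subgroup.mem_zpowers c), trivial⟩ trivial
    have hcrr : c * r * (c * r) ∈ L := by
      have h5 : c * r * (c * r) = c * (r * c * r⁻¹) * (r * r) := by group
      rw [h5, hzr]
      have h6 : c * ((zr : Γ) * c) * (r * r) = zr * (c * c) * (r * r) := by
        have := F.zcomm zr.2 c
        rw [← mul_assoc c, ← this]; group
      rw [h6]
      exact mul_mem (mul_mem (F.ZL zr.2) hcc) hrr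
    have Ecr : El L H x (c * r) := ⟨mul_mem hcH hrH, hcrL, by rw [mul_assoc, hrx, ← mul_assoc, hcP x F.xP, mul_assoc], hcrr⟩
    by_cases hneu : ∀ l ∈ H, l ∈ L → ∀ z : Z, l * c * l⁻¹ = z * c → lam z = 1
    · exact ⟨if lam zr = 1 then 18 else 6, fun K S => four_neu F S h4 Ec Er hcrL hcP hrP hneu hzr⟩
    · push Not at hneu
      obtain ⟨l, hlH, hlL, z, hl, hz⟩ := hneu
      exact ⟨9, fun K S => four_non F S h4 Ec Er Ecr hcP hrP hlH hlL hl hz hzr
        (hsign h4 K S c r Ec Er Ecr hcP hrP ⟨l, hlH, hlL, z, hl, hz⟩ zr hzr)⟩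

end Cfsg.Agent.H155.TI
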