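import Cfsg.Agent.H155.TI.Defs
import Cfsg.Agent.H395.TI34.UV
import Cfsg.Agent.Classification.TypeZ.Congr
import Cfsg.Agent.Blocks.OrbitSum
import Cfsg.Agent.Blocks.Basic

/-!
# The row `PSL₃(4)`: the nonvanishing lemma (helper155)
-/

set_option autoImplicit false

namespace Cfsg.Agent.H155.TI

open Cfsg Cfsg.Agent.Characters Cfsg.Agent.Characters.Core Cfsg.Agent.Characters.Central Cfsg.Agent.HKS.ModPSpec
open scoped ComplexConjugate

universe u

variable {Z W : Type u} [Group Z] [Group W] [Finite W] {c : W} {zc : Z} {m : ℂ}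

omit [Finite W] in
theorem int_dvd_of_integral {N : ℤ} {p : ℕ} (hp : p ≠ 0) {z : ℂ} (hz : IsIntegral ℤ z) (h : (N : ℂ) = p * z) :
    (p : ℤ) ∣ N := by
  have hp' : (p : ℂ) ≠ 0 := by exact_mod_cast hp
  obtain ⟨k, hk⟩ := GaloisBasic.exists_int_of_isIntegral hz ⟨(N : ℚ) / p, by
    push_cast
    rw [h]; field_simp⟩
  refine ⟨k, ?_⟩
  rw [hk] at h
  exact_mod_cast h

omit [Finite W] in
/-- `χ(c) = m k` -/
theorem val_mk {j : Z →* W} (hZ : ∀ z w, j z * w = w * j z) (lam : Z →* ℂˣ) (hcc : c * c = j zc)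
    (hm : m ^ 2 = (lam zc : ℂ)) (χ : IrrCharacter W) (hχ : Over j lam (χ : W → ℂ)) :
    ∃ k : ℤ, (χ : W → ℂ) c = m * k := by
  obtain ⟨χ, n, ρ, hρ, rfl⟩ := χ
  have hm0 : m ≠ 0 := by
    intro h
    rw [h] at hm
    exact (lam zc).ne_zero (by rw [← hm]; norm_num)
  have hz : ∀ z : Z, ρ (j z) = (lam z : ℂ) • (1 : Module.End ℂ (Fin n → ℂ)) := by
    intro z
    have h1 := eq_trace_smul_of_comm ρ hρ (ρ (j z)) (fun g => by
      rw [← map_mul, ← map_mul, hZ])
    have h2 : LinearMap.trace ℂ (Fin n → ℂ) (ρ (j z)) = (lam z : ℂ) * ρ.character 1 := by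
      have h3 := hχ z 1
      rw [mul_one] at h3
      exact h3
    rw [h2, mul_div_assoc, div_self (char_one_ne_zero ρ hρ), mul_one] at h1
    exact h1
  have hm2 : m * m = (lam zc : ℂ) := by rw [← hm]; ring
  set C : Module.End ℂ (Fin n → ℂ) := m⁻¹ • ρ c with hCdef
  have hC : C * C = 1 := by
    rw [hCdef]
    simp only [smul_mul_assoc, mul_smul_comm, smul_smul]
    rw [← map_mul, hcc, hz, smul_smul, ← hm2]
    have : m⁻¹ * m⁻¹ * (m * m) = 1 := by field_simp
    rw [this, one_smul]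
  obtain ⟨a, ha⟩ := H395.TI34.op_half C hC 1 (by norm_num)
  have h1 : LinearMap.trace ℂ (Fin n → ℂ) (1 : Module.End ℂ (Fin n → ℂ)) = n := by
    rw [LinearMap.trace_one, Module.finrank_fin_fun]
  refine ⟨2 * a - n, ?_⟩
  have h2 : ρ.character c = m * LinearMap.trace ℂ _ C := by
    rw [hCdef, map_smul, smul_eq_mul, ← mul_assoc, mul_inv_cancel₀ hm0, one_mul]
    rfl
  change ρ.character c = _
  rw [h2]
  push_cast
  rw [h1, one_mul] at ha
  congr 1
  linear_combination ha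

/-- **nonvanishing**: `c` a square root of a central element centralizing a Sylow `p`-subgroup `Q` and fused in `C(Q)`
only to `z c`, `lam z = 1` -/
theorem nonvan {j : Z →* W} (hZ : ∀ z w, j z * w = w * j z) (lam : Z →* ℂˣ) {p : ℕ} [Fact p.Prime] (hpZ : ¬ p ∣ Nat.card Z)
    (Q : Sylow p W) (hcQ : ∀ q ∈ (Q : Subgroup W), c * q = q * c) (hcc : c * c = j zc) (hm : m ^ 2 = (lam zc : ℂ))
    (hf : ∀ g : W, (∀ q ∈ (Q : Subgroup W), g * c * g⁻¹ * q = q * (g * c * g⁻¹)) →
      ∃ z : Z, g * c * g⁻¹ = j z * c ∧ lam z = 1)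
    (χ : IrrCharacter W) (hχ : Over j lam (χ : W → ℂ)) (hp : ¬ p ∣ charDegree (χ : W → ℂ)) :
    ∃ k : ℤ, (χ : W → ℂ) c = m * k ∧ ¬ (p : ℤ) ∣ k := by
  classical
  have hpp : p.Prime := Fact.out
  let _ : Fintype W := Fintype.ofFinite W
  obtain ⟨k, hk⟩ := val_mk hZ lam hcc hm χ hχ
  refine ⟨k, hk, fun hpk => ?_⟩
  have hm0 : m ≠ 0 := by
    intro h
    rw [h] at hm
    exact (lam zc).ne_zero (by rw [← hm]; norm_num)
  -- the class of `c`
  let K := {x : W // IsConj c x}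
  let _ : MulAction (Q : Subgroup W) K :=
    { smul := fun a s => ⟨(a : W) * s * (a : W)⁻¹, s.2.trans (isConj_iff.2 ⟨a, rfl⟩)⟩
      one_smul := fun s => Subtype.ext (by show ((1 : (Q : Subgroup W)) : W) * s * ((1 : (Q : Subgroup W)) : W)⁻¹ = s; simp)
      mul_smul := fun a b s => Subtype.ext (by
        show ((a * b : (Q : Subgroup W)) : W) * s * ((a * b : (Q : Subgroup W)) : W)⁻¹ =
          (a : W) * ((b : W) * s * (b : W)⁻¹) * (a : W)⁻¹
        push_cast
        group) }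
  have hsmul : ∀ (a : (Q : Subgroup W)) (s : K), ((a • s : K) : W) = (a : W) * s * (a : W)⁻¹ := fun _ _ => rfl
  let f : K → AlgInt := fun s => ⟨(χ : W → ℂ) (s * c), GaloisBasic.isIntegral_apply (isIrr_isCharacter χ.2) _⟩
  obtain ⟨α, hα⟩ := Blocks.OrbitSum.sum_eq_sum_fixed_add_smul (p := p) Q.isPGroup' f (fun a s => by
    apply Subtype.ext
    change (χ : W → ℂ) ((a • s : K) * c) = (χ : W → ℂ) (s * c)
    rw [hsmul]
    have h1 : (a : W) * s * (a : W)⁻¹ * c = (a : W) * (s * c) * (a : W)⁻¹ := by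
      have h2 : (a : W)⁻¹ * c = c * (a : W)⁻¹ := by
        rw [inv_mul_eq_iff_eq_mul, ← mul_assoc, ← hcQ a a.2, mul_assoc, mul_inv_cancel, mul_one]
      rw [mul_assoc _ (a : W)⁻¹ c, h2]
      group
    rw [h1]
    exact isIrr_isClassFunction χ.2 _ _)
  -- fixed points
  have hfix : ∀ s : K, s ∈ MulAction.fixedPoints (Q : Subgroup W) K → (f s : ℂ) = m ^ 2 * (χ : W → ℂ) 1 := by
    intro s hs
    obtain ⟨g, hg⟩ := isConj_iff.1 s.2
    obtain ⟨z, hz, hlz⟩ := hf g (fun q hq => by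
      have h1 := congrArg Subtype.val (hs ⟨q, hq⟩)
      rw [hsmul] at h1
      rw [hg]
      exact (mul_inv_eq_iff_eq_mul.1 h1).symm)
    change (χ : W → ℂ) (s * c) = _
    rw [← hg, hz, mul_assoc, hcc, hχ z, hlz, Units.val_one, one_mul, hm, ← hχ zc 1, mul_one]
  set F := Finset.univ.filter (fun s : K => s ∈ MulAction.fixedPoints (Q : Subgroup W) K) with hF
  have hsum : ∑ s : K, (χ : W → ℂ) (s * c) = F.card * (m ^ 2 * (χ : W → ℂ) 1) + p * (α : ℂ) := by
    have h1 := congrArg (fun t : AlgInt => (t : ℂ)) hα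
    simp only [AddSubmonoidClass.coe_finsetSum, Subalgebra.coe_add] at h1
    rw [Finset.sum_congr rfl (fun s hs => hfix s (Finset.mem_filter.1 hs).2), Finset.sum_const, nsmul_eq_mul] at h1
    rw [← hF] at h1
    rw [show ∑ s : K, (χ : W → ℂ) (s * c) = ∑ s : K, (f s : ℂ) from rfl, h1]
    congr 1
    simp
  have hid := Classification.TypeZ.Congr.sum_conj_mul χ.2 c c
  rw [show (∑ s : {x : W // IsConj c x}, (χ : W → ℂ) (s * c)) = ∑ s : K, (χ : W → ℂ) (s * c) from rfl, hsum] at hid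
  -- cards
  have hK : Nat.card K = (Subgroup.centralizer ({c} : Set W)).index := by
    rw [Subgroup.index_eq_card]
    refine (Nat.card_eq_of_bijective (f := fun q : W ⧸ Subgroup.centralizer ({c} : Set W) =>
      Quotient.liftOn' q (fun g => (⟨g * c * g⁻¹, isConj_iff.mpr ⟨g, rfl⟩⟩ : K)) ?_) ?_).symm
    · intro a b hab
      rw [QuotientGroup.leftRel_apply, Subgroup.mem_centralizer_singleton_iff] at hab
      apply Subtype.ext
      show a * c * a⁻¹ = b * c * b⁻¹
      calc a * c * a⁻¹ = a * (c * (a⁻¹ * b)) * b⁻¹ := by group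
        _ = a * (a⁻¹ * b * c) * b⁻¹ := by rw [hab]
        _ = b * c * b⁻¹ := by group
    · constructor
      · intro q q' h
        induction q using QuotientGroup.induction_on with | H a => ?_
        induction q' using QuotientGroup.induction_on with | H b => ?_
        have h1 : a * c * a⁻¹ = b * c * b⁻¹ := congrArg Subtype.val h
        rw [QuotientGroup.eq, Subgroup.mem_centralizer_singleton_iff]
        calc a⁻¹ * b * c = a⁻¹ * (b * c * b⁻¹) * b := by group
          _ = a⁻¹ * (a * c * a⁻¹) * b := by rw [h1]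
          _ = c * (a⁻¹ * b) := by group
      · rintro ⟨y, hy⟩
        obtain ⟨g, rfl⟩ := isConj_iff.1 hy
        exact ⟨(g : W ⧸ Subgroup.centralizer ({c} : Set W)), rfl⟩
  have hidx : ¬ p ∣ (Subgroup.centralizer ({c} : Set W)).index := by
    intro h
    have h1 : (Q : Subgroup W) ≤ Subgroup.centralizer ({c} : Set W) := fun q hq =>
      Subgroup.mem_centralizer_singleton_iff.2 (hcQ q hq).symm
    exact Q.not_dvd_index (h.trans (Subgroup.index_dvd_of_le h1))
  have hcard : Nat.card K ≡ F.card [MOD p] := by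
    have h1 := Q.isPGroup'.card_modEq_card_fixedPoints K
    have h2 : Nat.card (MulAction.fixedPoints (Q : Subgroup W) K) = F.card := by
      rw [hF, Nat.card_eq_fintype_card, ← Set.toFinset_card]
      congr 1
      ext s
      simp
    rw [h2] at h1
    exact h1
  -- the conclusion
  have hZ0 : Nat.card Z ≠ 0 := fun h => hpZ (by rw [h]; exact dvd_zero p)
  have hl1 : ((lam zc)⁻¹ : ℂˣ) ^ Nat.card Z = 1 := by
    rw [inv_pow, ← map_pow, pow_card_eq_one', map_one, inv_one]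
  have hint : IsIntegral ℤ (((lam zc)⁻¹ : ℂˣ) : ℂ) := by
    refine IsIntegral.of_pow (n := Nat.card Z) (Nat.pos_of_ne_zero hZ0) ?_
    rw [← Units.val_pow_eq_pow_val, hl1, Units.val_one]
    exact isIntegral_one
  have h1c : (χ : W → ℂ) 1 = (charDegree (χ : W → ℂ) : ℂ) := Blocks.Basic.irr_one_eq_charDegree χ.2
  set n1 : ℕ := charDegree (χ : W → ℂ) with hn1
  have hn10 : (n1 : ℂ) ≠ 0 := by
    intro h
    apply hp
    rw [show n1 = 0 by exact_mod_cast h]
    exact dvd_zero p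
  have hkey : ((((Subgroup.centralizer ({c} : Set W)).index : ℤ) * k ^ 2 - F.card * n1 ^ 2 : ℤ) : ℂ) =
      p * ((α : ℂ) * n1 * (((lam zc)⁻¹ : ℂˣ) : ℂ)) := by
    unfold centralChar at hid
    rw [hk, h1c] at hid
    have hm' : (((lam zc)⁻¹ : ℂˣ) : ℂ) = (m ^ 2)⁻¹ := by rw [Units.val_inv_eq_inv_val, hm]
    rw [hm']
    push_cast
    field_simp at hid ⊢
    linear_combination (-1 : ℂ) * hid
  have hdvd := int_dvd_of_integral hpp.ne_zero ((α.2.mul (isIntegral_natCast (a := n1))).mul hint) hkey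
  have h2 : (p : ℤ) ∣ F.card * n1 ^ 2 := by
    have h3 : (p : ℤ) ∣ ((Subgroup.centralizer ({c} : Set W)).index : ℤ) * k ^ 2 :=
      Dvd.dvd.mul_left (dvd_pow hpk two_ne_zero) _
    have h4 := dvd_sub h3 hdvd
    have h5 : ((Subgroup.centralizer ({c} : Set W)).index : ℤ) * k ^ 2 -
        (((Subgroup.centralizer ({c} : Set W)).index : ℤ) * k ^ 2 - F.card * n1 ^ 2) = F.card * n1 ^ 2 := by ring
    rwa [h5] at h4
  have h3 : p ∣ F.card * n1 ^ 2 := by exact_mod_cast h2
  rcases (Nat.Prime.dvd_mul hpp).1 h3 with h4 | h4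
  · apply hidx
    rw [← hK]
    exact (Nat.modEq_zero_iff_dvd.1 (hcard.trans (Nat.modEq_zero_iff_dvd.2 h4)))
  · exact hp (hpp.dvd_of_dvd_pow h4)

end Cfsg.Agent.H155.TI
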