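import Cfsg.Agent.H155.TI.Main
import Cfsg.Agent.H185.TI.KapHom

/-!
# The row `PSL₃(4)`: the sign statement on both sides (helper155)
-/

set_option autoImplicit false
set_option linter.unusedSectionVars false

namespace Cfsg.Agent.H155.TI

open Cfsg Cfsg.Agent.Characters.Core
open Cfsg.Agent.H612.TI34 (quad)
open Cfsg.Agent.H185.TI (kappa)
open scoped Pointwise

universe u

variable {Γ : Type u} [Group Γ] [Finite Γ] {Z L P H : Subgroup Γ} {x d a b : Γ} {lam : Z →* ℂˣ}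

/-- **the sign statement** -/
theorem sign_of_side (F : Frame Z L P H x d a b) (lam : Z →* ℂˣ) (hidx : L.index = 4) (K : Subgroup Γ)
    (S : Side Z L P H x lam K) (c r : Γ) (Ec : El L H x c) (Er : El L H x r) (Ecr : El L H x (c * r))
    (hcP : ∀ y ∈ P, c * y = y * c) (hrP : ¬ ∀ y ∈ P, r * y = y * r)
    (hnon : ∃ l ∈ H, l ∈ L ∧ ∃ z : Z, l * c * l⁻¹ = z * c ∧ lam z ≠ 1) (zr : Z) (hzr : r * c * r⁻¹ = zr * c) :
    Sign lam (S.ZA F) (AB c) ⟨x, S.xA F⟩ r zr := by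
  classical
  obtain ⟨l, hlH, hlL, z, hl, hz⟩ := hnon
  obtain ⟨zr', hzr', q⟩ := quad F S.PK S.HK hidx Ec.eH Er.eH Ec.eL Er.eL Ecr.eL Ec.ee Er.ee hcP Er.ex (S.ZA F) (AB c)
    inf_le_right (S.xA F) (S.eB Ec) (S.HK Er.eH)
  have hz' : zr' = zr := by
    apply Subtype.ext
    rw [hzr] at hzr'
    exact (mul_right_cancel hzr').symm
  subst hz'
  obtain ⟨h1, h2⟩ := S.non F Ec hcP hlH hlL hl hz
  have hcrP : ¬ ∀ y ∈ P, c * r * y = y * (c * r) := by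
    intro h
    apply hrP
    intro y hy
    have h3 := h y hy
    have h4 : c * (r * y) = c * (y * r) := by
      rw [← mul_assoc, h3, ← mul_assoc, ← hcP y hy, mul_assoc]
    exact mul_left_cancel h4
  obtain ⟨h3, h4⟩ := S.refl F Er hrP
  obtain ⟨h5, h6⟩ := S.refl F Ecr hcrP
  have hcr : Subgroup.inclusion (inf_le_right (a := Le L c) (b := K)) ⟨c, S.eB Ec⟩ * ⟨r, S.HK Er.eH⟩ =
      (⟨c * r, S.HK Ecr.eH⟩ : K) := rfl
  have hkap := kappa q (S.six _ (S.xA F)) (by rw [fe_eq]; exact h1) (by rw [fe_eq']; exact h3)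
    (by rw [hcr, fe_eq']; exact h5) (fun χ hχ hi h => (h2 χ hχ _ rfl).1 hi h) (Subtype.ext (F.P3 x F.xP))
    ⟨⟨r * r, F.sq_mem Er.eH Er.ex Er.ee⟩, rfl⟩ (fun χ hχ h => (h2 χ hχ _ rfl).2 h)
    (i1 := Subgroup.inclusion (AB (K := K) r)) (k1 := Subgroup.inclusion (inf_le_right (a := Le L r) (b := K)))
    (Subgroup.inclusion_injective _) (fun _ => rfl)
    (F.pair Er.eH Er.eL Er.ex Er.ee S.HK (S.ZA F) (AB (K := K) r)).idx (r1 := ⟨r, S.eB Er⟩) rfl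
    (fun χ hχ h => h4 χ hχ h _ rfl)
    (i2 := Subgroup.inclusion (AB (K := K) (c * r))) (k2 := Subgroup.inclusion (inf_le_right (a := Le L (c * r)) (b := K)))
    (Subgroup.inclusion_injective _) (fun _ => rfl)
    (F.pair Ecr.eH Ecr.eL Ecr.ex Ecr.ee S.HK (S.ZA F) (AB (K := K) (c * r))).idx (r2 := ⟨c * r, S.eB Ecr⟩) rfl
    (fun χ hχ h => h6 χ hχ h _ rfl)
  intro χ hχ hi h
  rw [← hkap χ hχ hi h]
  exact (inv_iff _ _ _).symm

end Cfsg.Agent.H155.TI
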