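import Cfsg.Agent.H155.TI.Cen
import Cfsg.Agent.H155.TI.Sgn
import Cfsg.Agent.H199.TI.GoalR

/-!
# S4819, S4820: the row `PSL₃(4)`, `p = 3` (helper155 and many others)
-/

set_option autoImplicit false

namespace Cfsg.Agent.H155.TI

universe u

/-- the central count -/
theorem cl : CL.{u} :=
  cl_of_sign (fun _ _ _ _ _ _ _ _ _ _ _ F lam hidx K S c r Ec Er Ecr hcP hrP hnon zr hzr =>
    sign_of_side F lam hidx K S c r Ec Er Ecr hcP hrP hnon zr hzr)

/-- **the row `PSL₃(4)`** -/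
theorem rowL34 : Cfsg.Agent.H723.TI.RowL34.{u} :=
  H199.TI.goalR H315.TI.goalAut cl

end Cfsg.Agent.H155.TI
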