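import Cfsg.Agent.H155.TI.FourNon
import Cfsg.Agent.H155.TI.NonVan

/-!
# The row `PSL₃(4)`: the two sides `K = Γ`, `K = N(P)` (helper155)
-/

set_option autoImplicit false
set_option linter.unusedSectionVars false

namespace Cfsg.Agent.H155.TI

open Cfsg Cfsg.Agent.Characters.Core
open Cfsg.Agent.H41.TI (count_pair res_cases exists_ext over_iff)
open Cfsg.Agent.H395.TI34 (uv two3 two9)
open scoped Pointwise

universe u

variable {Γ : Type u} [Group Γ] {Z L P H : Subgroup Γ} {x d a b : Γ}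

/-- invariance of a class function of the subgroup `A` under an element of `Γ` -/
def InvG {A : Subgroup Γ} (e : Γ) (η : A → ℂ) : Prop :=
  ∀ a a' : A, (a' : Γ) = e * a * e⁻¹ → η a' = η a

theorem inv_iff {A M : Subgroup Γ} (h : A ≤ M) {e : Γ} (he : e ∈ M) (η : A → ℂ) :
    Inv (Subgroup.inclusion h) ⟨e, he⟩ η ↔ InvG e η := by
  constructor
  · intro h1 a a' ha
    exact h1 a a' (Subtype.ext ha)
  · intro h1 a a' ha
    exact h1 a a' (congrArg Subtype.val ha)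

theorem inv_iff' {A B M : Subgroup Γ} (h : A ≤ B) (h' : B ≤ M) {e : Γ} (he : e ∈ M) (η : A → ℂ) :
    Inv ((Subgroup.inclusion h').comp (Subgroup.inclusion h)) ⟨e, he⟩ η ↔ InvG e η := by
  constructor
  · intro h1 a a' ha
    exact h1 a a' (Subtype.ext ha)
  · intro h1 a a' ha
    exact h1 a a' (congrArg Subtype.val ha)

/-- the two sides: `K = ⊤` and `K = N(P)` -/
structure Side (Z L P H : Subgroup Γ) (x : Γ) (lam : Z →* ℂˣ) (K : Subgroup Γ) : Prop where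
  PK : P ≤ K
  HK : H ≤ K
  six : ∀ (hZ : Z ≤ L ⊓ K) (hx : x ∈ L ⊓ K), Six (Subgroup.inclusion hZ) lam ⟨x, hx⟩
  van : ∀ M : Subgroup Γ, L ⊓ K ≤ M → M ≤ K → ∀ (hZ : Z ≤ M) (hx : x ∈ M) (χ : IrrCharacter M),
    Over (Subgroup.inclusion hZ) lam (χ : M → ℂ) → (χ : M → ℂ) ⟨x, hx⟩ = 0 →
    ∀ e ∈ H, e * x = x * e → ∀ y : M, (y : Γ) = x * e → (χ : M → ℂ) y = 0

/-- the data of an element `e` -/
structure El (L H : Subgroup Γ) (x e : Γ) : Prop where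
  eH : e ∈ H
  eL : e ∉ L
  ex : e * x = x * e
  ee : e * e ∈ L

section side

variable {lam : Z →* ℂˣ} {K : Subgroup Γ} (F : Frame Z L P H x d a b) (S : Side Z L P H x lam K)
include F S

theorem Side.ZK : Z ≤ K := F.ZH.trans S.HK

theorem Side.ZA : Z ≤ L ⊓ K := le_inf F.ZL (S.ZK F)

theorem Side.xA : x ∈ L ⊓ K := ⟨F.PL F.xP, S.PK F.xP⟩

omit F S in
theorem AB {L K : Subgroup Γ} (e : Γ) : L ⊓ K ≤ Le L e ⊓ K := inf_le_inf_right K le_sup_left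

omit F in
theorem Side.eB {e : Γ} (E : El L H x e) : e ∈ Le L e ⊓ K :=
  ⟨Subgroup.mem_sup_right (Subgroup.mem_zpowers e), S.HK E.eH⟩

theorem Side.dB {e : Γ} : d ∈ Le L e ⊓ K := ⟨Subgroup.mem_sup_left F.dL, S.HK F.dH⟩

/-- the package `Pair`, `Elt` -/
theorem Side.elt [Finite Γ] {e : Γ} (E : El L H x e) {n : ℕ}
    (hn : Nat.card (P ⊓ Subgroup.centralizer ({e} : Set Γ) : Subgroup Γ) = n) :
    ∃ m : ℂ, Pair (Subgroup.inclusion (S.ZA F)) (Subgroup.inclusion (AB (K := K) e)) ∧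
      Elt (Subgroup.inclusion (S.ZA F)) (Subgroup.inclusion (AB (K := K) e)) lam ⟨x, S.xA F⟩ ⟨e, S.eB E⟩ ⟨d, S.dB F⟩
        ⟨e * e, F.sq_mem E.eH E.ex E.ee⟩ m n := by
  obtain ⟨m, hm, -⟩ := exists_m (lam ⟨e * e, F.sq_mem E.eH E.ex E.ee⟩)
  refine ⟨m, F.pair E.eH E.eL E.ex E.ee S.HK _ _, F.elt lam E.eH E.eL E.ex E.ee S.PK S.HK _ _ _ _ _ hm hn ?_⟩
  intro χ hχ h0
  exact S.van _ (AB e) inf_le_right ((S.ZA F).trans (AB e)) (AB e (S.xA F)) χ hχ h0 e E.eH E.ex _ rfl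

end side

section counts

variable {lam : Z →* ℂˣ} {K : Subgroup Γ} (F : Frame Z L P H x d a b) (S : Side Z L P H x lam K)

/-- the number of `e`-invariant members not vanishing at `x` -/
noncomputable def fe (lam : Z →* ℂˣ) {A : Subgroup Γ} (hZ : Z ≤ A) (x : A) (e : Γ) : ℕ :=
  Nat.card {η : IrrCharacter A // Over (Subgroup.inclusion hZ) lam (η : A → ℂ) ∧ (η : A → ℂ) x ≠ 0 ∧
    InvG e (η : A → ℂ)}

theorem fe_eq {A M : Subgroup Γ} (hZ : Z ≤ A) (x : A) (h : A ≤ M) {e : Γ} (he : e ∈ M) :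
    Nat.card {η : IrrCharacter A // Over (Subgroup.inclusion hZ) lam (η : A → ℂ) ∧ (η : A → ℂ) x ≠ 0 ∧
      Inv (Subgroup.inclusion h) ⟨e, he⟩ (η : A → ℂ)} = fe lam hZ x e :=
  card_congr_iff fun χ => by rw [inv_iff]

theorem fe_eq' {A B M : Subgroup Γ} (hZ : Z ≤ A) (x : A) (h : A ≤ B) (h' : B ≤ M) {e : Γ} (he : e ∈ M) :
    Nat.card {η : IrrCharacter A // Over (Subgroup.inclusion hZ) lam (η : A → ℂ) ∧ (η : A → ℂ) x ≠ 0 ∧
      Inv ((Subgroup.inclusion h').comp (Subgroup.inclusion h)) ⟨e, he⟩ (η : A → ℂ)} = fe lam hZ x e :=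
  card_congr_iff fun χ => by rw [inv_iff']

include F S

/-- `e` does not centralize `P` : 4 invariant members -/
theorem Side.refl [Finite Γ] {e : Γ} (E : El L H x e) (hP : ¬ ∀ y ∈ P, e * y = y * e) :
    fe lam (S.ZA F) ⟨x, S.xA F⟩ e = 4 ∧
    ∀ χ : IrrCharacter (Le L e ⊓ K : Subgroup Γ), Over (Subgroup.inclusion ((S.ZA F).trans (AB e))) lam
      (χ : (Le L e ⊓ K : Subgroup Γ) → ℂ) → (χ : (Le L e ⊓ K : Subgroup Γ) → ℂ) ⟨x, AB e (S.xA F)⟩ ^ 2 = 4 →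
      ∀ y : (Le L e ⊓ K : Subgroup Γ), (y : Γ) = x * e → (χ : (Le L e ⊓ K : Subgroup Γ) → ℂ) y = 0 := by
  obtain ⟨m, h1, h2⟩ := S.elt F E (F.card_cent_P E.ex hP)
  have h3 := two3 h1 h2 (S.six _ _)
  refine ⟨by rw [← h3.1, fe_eq], fun χ hχ h4 y hy => ?_⟩
  have h5 : y = Subgroup.inclusion (AB e) ⟨x, S.xA F⟩ * ⟨e, S.eB E⟩ := Subtype.ext hy
  rw [h5]
  exact h3.2 χ hχ h4

/-- `e` centralizes `P`, not neutral : 2 invariant members -/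
theorem Side.non [Finite Γ] {e : Γ} (E : El L H x e) (hP : ∀ y ∈ P, e * y = y * e) {l : Γ} (hlH : l ∈ H) (hlL : l ∈ L)
    {z : Z} (hl : l * e * l⁻¹ = z * e) (hz : lam z ≠ 1) :
    fe lam (S.ZA F) ⟨x, S.xA F⟩ e = 2 ∧
    ∀ χ : IrrCharacter (Le L e ⊓ K : Subgroup Γ), Over (Subgroup.inclusion ((S.ZA F).trans (AB e))) lam
      (χ : (Le L e ⊓ K : Subgroup Γ) → ℂ) →
      ∀ y : (Le L e ⊓ K : Subgroup Γ), (y : Γ) = x * e →
        (IsIrrCharacter (L ⊓ K : Subgroup Γ) (fun t => (χ : (Le L e ⊓ K : Subgroup Γ) → ℂ) (Subgroup.inclusion (AB e) t)) →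
          (χ : (Le L e ⊓ K : Subgroup Γ) → ℂ) ⟨x, AB e (S.xA F)⟩ ^ 2 = 1 → (χ : (Le L e ⊓ K : Subgroup Γ) → ℂ) y ≠ 0) ∧
        ((χ : (Le L e ⊓ K : Subgroup Γ) → ℂ) ⟨x, AB e (S.xA F)⟩ ^ 2 = 4 → (χ : (Le L e ⊓ K : Subgroup Γ) → ℂ) y = 0) := by
  obtain ⟨m, h1, h2⟩ := S.elt F E (F.card_cent_P' hP)
  have hl' : l ∈ Le L e ⊓ K := ⟨Subgroup.mem_sup_left hlL, S.HK hlH⟩
  have h3 := two9_non h1 h2 (S.six _ _) (g := ⟨l, hl'⟩) (z := z) (Subtype.ext hl) hz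
  refine ⟨by rw [← h3.1, fe_eq], fun χ hχ y hy => ?_⟩
  have h4 : y = Subgroup.inclusion (AB e) ⟨x, S.xA F⟩ * ⟨e, S.eB E⟩ := Subtype.ext hy
  rw [h4]
  exact ⟨fun h5 h6 => (h3.2 χ hχ).2.1 h5 h6, fun h5 => (h3.2 χ hχ).2.2 h5⟩

/-- `e` centralizes `P`, neutral : 6 invariant members -/
theorem Side.neu [Finite Γ] {e : Γ} (E : El L H x e) (hP : ∀ y ∈ P, e * y = y * e)
    (hneu : ∀ l ∈ H, l ∈ L → ∀ z : Z, l * e * l⁻¹ = z * e → lam z = 1) :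
    fe lam (S.ZA F) ⟨x, S.xA F⟩ e = 6 ∧
    ∀ χ : IrrCharacter (Le L e ⊓ K : Subgroup Γ), Over (Subgroup.inclusion ((S.ZA F).trans (AB e))) lam
      (χ : (Le L e ⊓ K : Subgroup Γ) → ℂ) → (χ : (Le L e ⊓ K : Subgroup Γ) → ℂ) ⟨x, AB e (S.xA F)⟩ ≠ 0 →
      ∀ y : (Le L e ⊓ K : Subgroup Γ), (y : Γ) = x * e → (χ : (Le L e ⊓ K : Subgroup Γ) → ℂ) y ≠ 0 := by
  obtain ⟨m, h1, h2⟩ := S.elt F E (F.card_cent_P' hP)
  have : Fact (Nat.Prime 3) := ⟨Nat.prime_three⟩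
  have hPB : P ≤ Le L e ⊓ K := le_inf (F.PL.trans le_sup_left) S.PK
  -- the Sylow subgroup
  have hpg : IsPGroup 3 (P.subgroupOf (Le L e ⊓ K)) :=
    F.pgroup.of_injective (Subgroup.subgroupOfEquivOfLe hPB).toMonoidHom (Subgroup.subgroupOfEquivOfLe hPB).injective
  have hidx : ¬ 3 ∣ (P.subgroupOf (Le L e ⊓ K)).index := fun h =>
    F.Pidx (h.trans (Subgroup.relIndex_dvd_index_of_le hPB))
  have h3 := two9_neu h1 h2 (S.six _ _) (fun χ hχ h3 => by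
    refine nonvan (j := (Subgroup.inclusion (AB (K := K) e)).comp (Subgroup.inclusion (S.ZA F))) (fun z w => ?_) lam
      F.Z3 (hpg.toSylow hidx) ?_ h2.cc h2.mm ?_ χ hχ h3
    · exact h1.cen z w
    · intro q hq
      exact Subtype.ext (hP q hq)
    · intro g hg
      obtain ⟨l, hlH, hlL, z, h4, h5⟩ := F.fus (g := (g : Γ)) E.eH hP E.ee g.2.1 (fun q hq => by
        have h6 := hg ⟨q, hPB hq⟩ hq
        exact congrArg Subtype.val h6)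
      exact ⟨z, Subtype.ext h4, hneu l hlH hlL z h5⟩)
  refine ⟨by rw [← h3.1, fe_eq], fun χ hχ h4 y hy => ?_⟩
  have h5 : y = Subgroup.inclusion (AB e) ⟨x, S.xA F⟩ * ⟨e, S.eB E⟩ := Subtype.ext hy
  rw [h5]
  exact h3.2 χ hχ h4

/-- index 2: the count on `L⟨e⟩ ∩ K` -/
theorem Side.nz_two [Finite Γ] {e : Γ} (E : El L H x e) {f : ℕ} (hf : fe lam (S.ZA F) ⟨x, S.xA F⟩ e = f) :
    2 * nz (Subgroup.inclusion ((S.ZA F).trans (AB e))) lam (⟨x, AB e (S.xA F)⟩ : (Le L e ⊓ K : Subgroup Γ)) = 3 * f + 6 := by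
  have h1 := F.pair E.eH E.eL E.ex E.ee S.HK (S.ZA F) (AB (K := K) e)
  have hcA : (⟨e, S.eB E⟩ : (Le L e ⊓ K : Subgroup Γ)) ∉ (Subgroup.inclusion (AB (K := K) e)).range := by
    rintro ⟨t, ht⟩
    apply E.eL
    have h1 := congrArg Subtype.val ht
    change (t : Γ) = e at h1
    rw [← h1]
    exact t.2.1
  have hcx : (⟨e, S.eB E⟩ : (Le L e ⊓ K : Subgroup Γ)) * Subgroup.inclusion (AB (K := K) e) ⟨x, S.xA F⟩ =
      Subgroup.inclusion (AB (K := K) e) ⟨x, S.xA F⟩ * ⟨e, S.eB E⟩ := Subtype.ext E.ex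
  exact nz_of_card h1 hcA hcx (S.six _ (S.xA F)) (by rw [fe_eq]; exact hf)

end counts

end Cfsg.Agent.H155.TI
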